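import Cfsg.Agent.Lib.Classical.GL2
import Cfsg.Agent.Lib.Classical.SLGen

/-!
`SL₂(F)` as permutations of `F²`: transvections and permutations preserving the lines.
-/

set_option autoImplicit false
set_option linter.unusedSectionVars false

namespace CfsgLib.NatSL2

open Matrix CfsgLib.Classical

variable {F : Type*} [Field F]

/-- The plane. -/
abbrev Pl (F : Type*) := Fin 2 → F

/-- The alternating form. -/
def dt (v w : Pl F) : F := v 0 * w 1 - v 1 * w 0

theorem dt_self (v : Pl F) : dt v v = 0 := by unfold dt; ring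

theorem dt_add_right (u v w : Pl F) : dt u (v + w) = dt u v + dt u w := by
  unfold dt; simp only [Pi.add_apply]; ring

theorem dt_smul_right (u v : Pl F) (a : F) : dt u (a • v) = a * dt u v := by
  unfold dt; simp only [Pi.smul_apply, smul_eq_mul]; ring

theorem dt_smul_left (u v : Pl F) (a : F) : dt (a • u) v = a * dt u v := by
  unfold dt; simp only [Pi.smul_apply, smul_eq_mul]; ring

/-- Cramer's rule. -/
theorem expand (w v₁ v : Pl F) (h : dt w v₁ = 1) : v = dt v v₁ • w + dt w v • v₁ := by
  funext i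
  fin_cases i <;> simp [dt] at h ⊢
  · linear_combination (-(v 0)) * h
  · linear_combination (-(v 1)) * h

theorem exists_dual {w : Pl F} (hw : w ≠ 0) : ∃ v₁, dt w v₁ = 1 := by
  by_cases h0 : w 0 = 0
  · have h1 : w 1 ≠ 0 := fun h => hw (by funext i; fin_cases i <;> assumption)
    exact ⟨![-(w 1)⁻¹, 0], by simp [dt, h0, h1]⟩
  · exact ⟨![0, (w 0)⁻¹], by simp [dt, h0]⟩

/-- The first basis vector. -/
def e0 : Pl F := ![1, 0]

/-- The second basis vector. -/
def e1 : Pl F := ![0, 1]

theorem dt_e0 (v : Pl F) : dt e0 v = v 1 := by simp [dt, e0]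

theorem dt_e1 (v : Pl F) : dt e1 v = -v 0 := by simp [dt, e1]

theorem e0_ne : (e0 : Pl F) ≠ 0 := fun h => one_ne_zero (α := F) (by simpa [e0] using congrFun h 0)

theorem e1_ne : (e1 : Pl F) ≠ 0 := fun h => one_ne_zero (α := F) (by simpa [e1] using congrFun h 1)

theorem dt_eq_zero_iff {w v : Pl F} (hw : w ≠ 0) : dt w v = 0 ↔ ∃ a : F, v = a • w := by
  constructor
  · intro h
    obtain ⟨v₁, hv₁⟩ := exists_dual hw
    refine ⟨dt v v₁, ?_⟩
    conv_lhs => rw [expand w v₁ v hv₁, h, zero_smul, add_zero]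
  · rintro ⟨a, rfl⟩
    rw [dt_smul_right, dt_self, mul_zero]

/-- The action of `SL₂` on the plane. -/
def act (F : Type*) [Field F] : Matrix.SpecialLinearGroup (Fin 2) F →* Equiv.Perm (Pl F) where
  toFun g :=
    { toFun := fun v => g.1 *ᵥ v
      invFun := fun v => (g⁻¹).1 *ᵥ v
      left_inv := fun v => by
        simp only [Matrix.mulVec_mulVec, ← Matrix.SpecialLinearGroup.coe_mul, inv_mul_cancel,
          Matrix.SpecialLinearGroup.coe_one, Matrix.one_mulVec]
      right_inv := fun v => by
        simp only [Matrix.mulVec_mulVec, ← Matrix.SpecialLinearGroup.coe_mul, mul_inv_cancel,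
          Matrix.SpecialLinearGroup.coe_one, Matrix.one_mulVec] }
  map_one' := Equiv.ext fun v => by simp
  map_mul' a b := Equiv.ext fun v => (Matrix.mulVec_mulVec v a.1 b.1).symm

theorem act_apply (g : Matrix.SpecialLinearGroup (Fin 2) F) (v : Pl F) : act F g v = g.1 *ᵥ v := rfl

theorem act_add (g : Matrix.SpecialLinearGroup (Fin 2) F) (v w : Pl F) :
    act F g (v + w) = act F g v + act F g w := by
  rw [act_apply, act_apply, act_apply, Matrix.mulVec_add]

theorem act_smul (g : Matrix.SpecialLinearGroup (Fin 2) F) (a : F) (v : Pl F) :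
    act F g (a • v) = a • act F g v := by
  rw [act_apply, act_apply, Matrix.mulVec_smul]

theorem act_injective : Function.Injective (act F) := fun g h e =>
  Subtype.ext (Matrix.ext_iff_mulVec.2 fun v => Equiv.congr_fun e v)

/-- The transvection along `w`. -/
def trv (w : Pl F) (c : F) : Matrix.SpecialLinearGroup (Fin 2) F :=
  ⟨!![1 - c * (w 0 * w 1), c * (w 0 * w 0); -(c * (w 1 * w 1)), 1 + c * (w 0 * w 1)], by
    rw [Matrix.det_fin_two_of]; ring⟩

theorem trv_apply (w : Pl F) (c : F) (v : Pl F) : act F (trv w c) v = v + (c * dt w v) • w := by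
  rw [act_apply]
  funext i
  fin_cases i <;> simp [trv, dt, Matrix.mulVec, dotProduct, Fin.sum_univ_two] <;> ring

theorem trv_mul (w : Pl F) (c d : F) : trv w c * trv w d = trv w (c + d) := by
  refine act_injective (Equiv.ext fun v => ?_)
  rw [map_mul, Equiv.Perm.mul_apply, trv_apply, trv_apply, trv_apply, dt_add_right, dt_smul_right,
    dt_self, mul_zero, add_zero, add_assoc, ← add_smul]
  congr 2
  ring

theorem trv_zero (w : Pl F) : trv w 0 = 1 := by
  refine act_injective (Equiv.ext fun v => ?_)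
  rw [trv_apply, map_one, Equiv.Perm.one_apply, zero_mul, zero_smul, add_zero]

theorem trv_inj {w : Pl F} (hw : w ≠ 0) {c d : F} (h : trv w c = trv w d) : c = d := by
  obtain ⟨v₁, hv₁⟩ := exists_dual hw
  have e := congrArg (fun g => act F g v₁) h
  simp only [trv_apply, add_right_inj, hv₁, mul_one] at e
  exact smul_left_injective F hw e

theorem uSL_eq_trv (c : F) : uSL c = trv e0 c := by
  refine Subtype.ext ?_
  rw [uSL_coe]
  ext i j
  fin_cases i <;> fin_cases j <;> simp [trv, e0]

theorem lSL_eq_trv (c : F) : lSL c = trv e1 (-c) := by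
  refine Subtype.ext ?_
  rw [lSL_coe]
  ext i j
  fin_cases i <;> fin_cases j <;> simp [trv, e1]

theorem mem_range_uSubgroup {g : Matrix.SpecialLinearGroup (Fin 2) F} :
    g ∈ uSubgroup F ↔ ∃ c, g = trv e0 c := by
  rw [mem_uSubgroup_iff]
  simp only [uSL_eq_trv, eq_comm]

/-- Additive permutations. -/
def IsAdd (h : Equiv.Perm (Pl F)) : Prop := ∀ v w, h (v + w) = h v + h w

/-- Permutations mapping lines into lines. -/
def PresLines (h : Equiv.Perm (Pl F)) : Prop := ∀ (v : Pl F) (a : F), ∃ b : F, h (a • v) = b • h v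

theorem IsAdd.map_zero {h : Equiv.Perm (Pl F)} (ha : IsAdd h) : h 0 = 0 := by
  have := ha 0 0
  rw [add_zero] at this
  simpa using this

theorem IsAdd.map_neg {h : Equiv.Perm (Pl F)} (ha : IsAdd h) (v : Pl F) : h (-v) = -h v := by
  refine eq_neg_of_add_eq_zero_left ?_
  rw [← ha, neg_add_cancel, ha.map_zero]

theorem IsAdd.map_sub {h : Equiv.Perm (Pl F)} (ha : IsAdd h) (v w : Pl F) :
    h (v - w) = h v - h w := by
  rw [sub_eq_add_neg, ha, ha.map_neg, sub_eq_add_neg]

theorem IsAdd.inv {h : Equiv.Perm (Pl F)} (ha : IsAdd h) : IsAdd h⁻¹ := fun v w =>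
  h.injective (by rw [ha]; simp)

theorem IsAdd.apply_ne {h : Equiv.Perm (Pl F)} (ha : IsAdd h) {v : Pl F} (hv : v ≠ 0) : h v ≠ 0 :=
  fun e => hv (h.injective (e.trans ha.map_zero.symm))

theorem presLines_inv [Finite F] {h : Equiv.Perm (Pl F)} (ha : IsAdd h) (hp : PresLines h)
    {v : Pl F} (hv : v ≠ 0) (b : F) : ∃ a : F, h (a • v) = b • h v := by
  classical
  choose f hf using hp v
  have hi : Function.Injective f := fun a a' e =>
    smul_left_injective F hv (h.injective (by rw [hf a, hf a', e]))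
  obtain ⟨a, rfl⟩ := Finite.surjective_of_injective hi b
  exact ⟨a, hf a⟩

/-- An additive line preserving map fixing the line of `w` and trivial modulo it is a transvection. -/
theorem eq_trv {x : Equiv.Perm (Pl F)} (ha : IsAdd x) (hp : PresLines x) {w : Pl F} (hw : w ≠ 0)
    (hfix : ∀ a : F, x (a • w) = a • w) (hq : ∀ v, dt w (x v - v) = 0) :
    ∃ c : F, x = act F (trv w c) := by
  obtain ⟨v₁, hv₁⟩ := exists_dual hw
  obtain ⟨c, hc⟩ := (dt_eq_zero_iff hw).1 (hq v₁)
  rw [sub_eq_iff_eq_add'] at hc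
  refine ⟨c, Equiv.ext fun v => ?_⟩
  have key : ∀ a : F, x (a • v₁) = a • v₁ + (a * c) • w := by
    intro a
    obtain ⟨b, hb⟩ := hp v₁ a
    obtain ⟨d, hd⟩ := (dt_eq_zero_iff hw).1 (hq (a • v₁))
    rw [sub_eq_iff_eq_add'] at hd
    have hab : a = b := by
      have e : dt w (x (a • v₁)) = dt w (b • x v₁) := by rw [hb]
      simp only [hd, hc, dt_add_right, dt_smul_right, dt_self, hv₁, mul_zero, add_zero,
        mul_one] at e
      exact e
    rw [hb, ← hab, hc, smul_add, smul_smul]
  conv_lhs => rw [expand w v₁ v hv₁]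
  rw [ha, hfix, key, trv_apply]
  conv_rhs => arg 1; rw [expand w v₁ v hv₁]
  rw [add_assoc, mul_comm c]

/-- A transvection conjugated by an additive line preserving map is a transvection. -/
theorem conj_trv [Finite F] {h : Equiv.Perm (Pl F)} (ha : IsAdd h) (hp : PresLines h) {w : Pl F}
    (hw : w ≠ 0) (c : F) : ∃ d : F, h * act F (trv w c) * h⁻¹ = act F (trv (h w) d) := by
  refine eq_trv (fun v v' => ?_) (fun v a => ?_) (ha.apply_ne hw) (fun b => ?_) (fun v => ?_)
  · simp only [Equiv.Perm.mul_apply, ha.inv v v', act_add]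
    exact ha _ _
  · simp only [Equiv.Perm.mul_apply]
    by_cases hv : v = 0
    · subst hv
      refine ⟨0, ?_⟩
      simp only [smul_zero, zero_smul, ha.inv.map_zero]
      rw [act_apply, Matrix.mulVec_zero, ha.map_zero]
    · obtain ⟨a', ha'⟩ := presLines_inv ha hp (ha.inv.apply_ne hv) a
      rw [show a • v = a • h (h⁻¹ v) by simp, ← ha', Equiv.Perm.coe_inv, Equiv.symm_apply_apply,
        act_smul]
      exact hp _ a'
  · obtain ⟨a, ha'⟩ := presLines_inv ha hp hw b
    simp only [Equiv.Perm.mul_apply]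
    rw [← ha', Equiv.Perm.coe_inv, Equiv.symm_apply_apply, trv_apply, dt_smul_right, dt_self,
      mul_zero, mul_zero, zero_smul, add_zero]
  · simp only [Equiv.Perm.mul_apply, trv_apply]
    rw [ha, Equiv.Perm.coe_inv, Equiv.apply_symm_apply]
    obtain ⟨b, hb⟩ := hp w (c * dt w (h.symm v))
    rw [add_sub_cancel_left, hb, dt_smul_right, dt_self, mul_zero]

/-- Line preserving additive permutations normalise the image of `SL₂`. -/
theorem conj_mem_range [Finite F] {h : Equiv.Perm (Pl F)} (ha : IsAdd h) (hp : PresLines h)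
    (g : Matrix.SpecialLinearGroup (Fin 2) F) : h * act F g * h⁻¹ ∈ (act F).range := by
  let K : Subgroup (Matrix.SpecialLinearGroup (Fin 2) F) :=
    (act F).range.comap ((MulAut.conj h).toMonoidHom.comp (act F))
  have hK : K = ⊤ := by
    refine eq_top_of_transvection_mem K fun i j hij c => ?_
    fin_cases i <;> fin_cases j <;> try exact absurd rfl hij
    · obtain ⟨d, hd⟩ := conj_trv ha hp e0_ne c
      show h * act F (uSL c) * h⁻¹ ∈ (act F).range
      rw [uSL_eq_trv, hd]
      exact ⟨_, rfl⟩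
    · obtain ⟨d, hd⟩ := conj_trv ha hp e1_ne (-c)
      show h * act F (lSL c) * h⁻¹ ∈ (act F).range
      rw [lSL_eq_trv, hd]
      exact ⟨_, rfl⟩
  exact (hK ▸ Subgroup.mem_top g : g ∈ K)

theorem fix_dt_zero {g : Matrix.SpecialLinearGroup (Fin 2) F} (hg : g ≠ 1) {w v : Pl F}
    (hw0 : w ≠ 0) (hw : act F g w = w) (hv : act F g v = v) : dt w v = 0 := by
  by_contra h
  refine hg (act_injective (Equiv.ext fun u => ?_))
  rw [map_one, Equiv.Perm.one_apply]
  have hd : dt w ((dt w v)⁻¹ • v) = 1 := by rw [dt_smul_right, inv_mul_cancel₀ h]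
  conv_lhs => rw [expand w _ u hd]
  conv_rhs => rw [expand w _ u hd]
  rw [act_add, act_smul, act_smul, act_smul, hw, hv]

/-- A permutation normalising the image of `SL₂` maps lines into lines. -/
theorem presLines_of_normalizes {h : Equiv.Perm (Pl F)} (ha : IsAdd h)
    (hn : ∀ g, h * act F g * h⁻¹ ∈ (act F).range) : PresLines h := by
  intro w a
  by_cases hw : w = 0
  · exact ⟨0, by rw [hw, smul_zero, zero_smul, ha.map_zero]⟩
  obtain ⟨g, hg⟩ := hn (trv w 1)
  have hg1 : g ≠ 1 := fun e => by
    rw [e, map_one] at hg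
    have : act F (trv w 1) = 1 := by
      have e2 := hg.symm
      rw [mul_inv_eq_one] at e2
      exact mul_left_cancel (e2.trans (mul_one h).symm)
    rw [← map_one (act F), ← trv_zero w] at this
    exact one_ne_zero (trv_inj hw (act_injective this))
  have hfix : ∀ b : F, act F g (h (b • w)) = h (b • w) := fun b => by
    rw [hg, Equiv.Perm.mul_apply, Equiv.Perm.mul_apply, Equiv.Perm.coe_inv, Equiv.symm_apply_apply,
      trv_apply, dt_smul_right, dt_self, mul_zero, mul_zero, zero_smul, add_zero]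
  refine (dt_eq_zero_iff (ha.apply_ne hw)).1 (fix_dt_zero hg1 (ha.apply_ne hw) ?_ (hfix a))
  have := hfix 1
  rwa [one_smul] at this

end CfsgLib.NatSL2
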