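import Cfsg.Agent.Lib.NatSL2.Fused
import Cfsg.Agent.S0256

/-!
Additive permutations of a sixteen point plane form a copy of `A₈`; index eight subgroups are `A₇`.
-/

set_option autoImplicit false
set_option linter.unusedSectionVars false

namespace CfsgLib.NatSL2

open Equiv MulAction

variable {F : Type*} [Field F]

theorem exists_embedding_eight [Finite F] [CharP F 2] (h4 : Nat.card F = 4)
    (H : Subgroup (Perm (Pl F))) (ha : ∀ h ∈ H, IsAdd h) :
    ∃ f : H →* alternatingGroup (Fin 8), Function.Injective f := by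
  classical
  letI : Module (ZMod 2) (Pl F) := AddCommGroup.zmodModule fun v => by
    rw [two_nsmul, add_self_char_two (F := F)]
  have hr : Module.finrank (ZMod 2) (Pl F) = 4 := by
    haveI : Fintype F := Fintype.ofFinite F
    have h := Module.natCard_eq_pow_finrank (K := ZMod 2) (V := Pl F)
    rw [Nat.card_fun, Nat.card_fin, h4, Nat.card_zmod] at h
    exact Nat.pow_right_injective le_rfl (show 2 ^ _ = 2 ^ 4 from h.symm.trans (by norm_num))
  let e : Pl F ≃ₗ[ZMod 2] (Fin 4 → ZMod 2) :=
    (Module.finBasisOfFinrankEq (ZMod 2) (Pl F) hr).equivFun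
  let L : H →* Matrix (Fin 4) (Fin 4) (ZMod 2) :=
    { toFun := fun h => LinearMap.toMatrix' (e.toLinearMap ∘ₗ
        ((AddMonoidHom.mk' (fun v => h.1 v) (ha h.1 h.2)).toZModLinearMap 2) ∘ₗ e.symm.toLinearMap)
      map_one' := by
        rw [← LinearMap.toMatrix'_id]
        congr 1
        exact LinearMap.ext fun v => e.apply_symm_apply v
      map_mul' := fun a b => by
        rw [← LinearMap.toMatrix'_comp]
        congr 1
        refine LinearMap.ext fun v => ?_
        show e (a.1 (b.1 (e.symm v))) = e (a.1 (e.symm (e (b.1 (e.symm v)))))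
        rw [e.symm_apply_apply] }
  have hLinj : Function.Injective L := fun a b h => Subtype.ext (Equiv.ext fun v => by
    have h1 := DFunLike.congr_fun (LinearMap.toMatrix'.injective h) (e v)
    have h2 : e (a.1 (e.symm (e v))) = e (b.1 (e.symm (e v))) := h1
    rw [e.symm_apply_apply] at h2
    exact e.injective h2)
  have hdet : ∀ h, (L h).det = 1 := fun h => by
    have hu : IsUnit (L h).det := (Matrix.isUnit_iff_isUnit_det _).1 ((Group.isUnit h).map L)
    rcases (by decide : ∀ x : ZMod 2, x = 0 ∨ x = 1) (L h).det with h0 | h0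
    · exact absurd h0 hu.ne_zero
    · exact h0
  let Ls : H →* Matrix.SpecialLinearGroup (Fin 4) (ZMod 2) :=
    { toFun := fun h => ⟨L h, hdet h⟩
      map_one' := Subtype.ext (map_one L)
      map_mul' := fun a b => Subtype.ext (map_mul L a b) }
  obtain ⟨eq⟩ := Cfsg.Agent.S0256.result (F := ZMod 2) (ZMod.card 2)
  let q : Matrix.SpecialLinearGroup (Fin 4) (ZMod 2) →* Matrix.ProjectiveSpecialLinearGroup (Fin 4) (ZMod 2) :=
    QuotientGroup.mk' (Subgroup.center (Matrix.SpecialLinearGroup (Fin 4) (ZMod 2)))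
  have hc : Function.Injective q := by
    rw [← MonoidHom.ker_eq_bot_iff, QuotientGroup.ker_mk']
    refine (Subgroup.eq_bot_iff_forall _).2 fun g hg => Subtype.ext ?_
    obtain ⟨r, -, hr2⟩ := Matrix.SpecialLinearGroup.mem_center_iff.1 hg
    rw [← hr2]
    rcases (by decide : ∀ x : ZMod 2, x = 0 ∨ x = 1) r with rfl | rfl
    · have h0 := g.2
      rw [← hr2] at h0
      simp at h0
    · simp
  refine ⟨eq.toMonoidHom.comp (q.comp Ls), fun a b h => hLinj ?_⟩
  have h1 := hc (eq.injective h)
  exact congrArg Subtype.val h1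

theorem alt_seven_of_index (K : Subgroup (alternatingGroup (Fin 8))) (hK : K.index = 8) :
    Nonempty (K ≃* alternatingGroup (Fin 7)) := by
  classical
  haveI : IsSimpleGroup (alternatingGroup (Fin 8)) := alternatingGroup.isSimpleGroup (by simp)
  let e : (alternatingGroup (Fin 8)) ⧸ K ≃ Fin 8 := by
    haveI : Fintype ((alternatingGroup (Fin 8)) ⧸ K) := Fintype.ofFinite _
    exact Fintype.equivFinOfCardEq (by rw [← Nat.card_eq_fintype_card]; exact hK)
  let φ : alternatingGroup (Fin 8) →* Perm (Fin 8) :=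
    e.permCongrHom.toMonoidHom.comp (toPermHom (alternatingGroup (Fin 8)) (alternatingGroup (Fin 8) ⧸ K))
  set x := e (QuotientGroup.mk 1) with hx
  have hmem : ∀ g, g ∈ K ↔ φ g x = x := fun g => by
    have h1 : φ g x = e (QuotientGroup.mk g) := by
      simp [φ, x, Equiv.permCongr_apply]
    rw [h1, hx, e.injective.eq_iff, eq_comm, QuotientGroup.eq, inv_one, one_mul]
  have hinj : Function.Injective φ := by
    rcases (φ.normal_ker).eq_bot_or_eq_top with h | h
    · exact (MonoidHom.ker_eq_bot_iff _).1 h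
    · exfalso
      have hK1 : K = ⊤ := eq_top_iff.2 fun g _ => (hmem g).2 (by
        rw [MonoidHom.mem_ker.1 (h ▸ Subgroup.mem_top g), Perm.one_apply])
      rw [hK1, Subgroup.index_top] at hK
      omega
  have hrange : φ.range = alternatingGroup (Fin 8) := by
    refine Equiv.Perm.eq_alternatingGroup_of_index_eq_two ?_
    have h1 : Nat.card φ.range = Nat.card (alternatingGroup (Fin 8)) :=
      (Nat.card_congr (MonoidHom.ofInjective hinj).toEquiv).symm
    have h2 := φ.range.card_mul_index
    rw [← (alternatingGroup (Fin 8)).card_mul_index, h1, alternatingGroup.index_eq_two] at h2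
    exact Nat.eq_of_mul_eq_mul_left Nat.card_pos h2
  set s : Finset (Fin 8) := Finset.univ.erase x with hs
  have hofinj : Function.Injective (alternatingGroup.ofSubtype s) := fun a b h => by
    have h' := congrArg Subtype.val h
    rw [alternatingGroup.coe_ofSubtype, alternatingGroup.coe_ofSubtype] at h'
    exact Subtype.ext (Equiv.Perm.ofSubtype_injective h')
  have hto : ∀ g : K, (φ g.1) ∈ alternatingGroup (Fin 8) := fun g => by
    have h : φ g.1 ∈ φ.range := ⟨g.1, rfl⟩
    exact (SetLike.ext_iff.1 hrange _).1 h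
  have hsub : ∀ g : K, (⟨φ g.1, hto g⟩ : alternatingGroup (Fin 8)) ∈
      (alternatingGroup.ofSubtype s).range := fun g =>
    (alternatingGroup.mem_range_ofSubtype_iff s _).2 fun w hw => Finset.mem_erase.2
      ⟨fun e' => Equiv.Perm.mem_support.1 hw (e' ▸ (hmem g.1).1 g.2), Finset.mem_univ _⟩
  let ψ : K →* (alternatingGroup.ofSubtype s).range :=
    { toFun := fun g => ⟨⟨φ g.1, hto g⟩, hsub g⟩
      map_one' := Subtype.ext (Subtype.ext (map_one φ))
      map_mul' := fun a b => Subtype.ext (Subtype.ext (map_mul φ _ _)) }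
  have hψ : Function.Bijective ψ := by
    refine ⟨fun a b h => Subtype.ext (hinj (congrArg (fun z => z.1.1) h)), fun z => ?_⟩
    obtain ⟨g, hg⟩ : (z.1 : Perm (Fin 8)) ∈ φ.range := (SetLike.ext_iff.1 hrange _).2 z.1.2
    have hz : ∀ w ∈ (z.1 : Perm (Fin 8)).support, w ∈ s :=
      (alternatingGroup.mem_range_ofSubtype_iff s z.1).1 z.2
    refine ⟨⟨g, (hmem g).2 ?_⟩, Subtype.ext (Subtype.ext hg)⟩
    rw [hg]
    by_contra hne
    exact (Finset.mem_erase.1 (hz x (Equiv.Perm.mem_support.2 hne))).1 rfl
  have hc : Fintype.card s = 7 := by simp [hs]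
  exact ⟨((MulEquiv.ofBijective ψ hψ).trans (MonoidHom.ofInjective hofinj).symm).trans
    (Fintype.equivFinOfCardEq hc).altCongrHom⟩

end CfsgLib.NatSL2
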