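import Cfsg.Agent.Lib.NatSL2.Spread
import Cfsg.Agent.Lib.KnownB.PSLAut.Out

/-!
Fusion of a field automorphism into the root group forces four elements and order `2520`.
-/

set_option autoImplicit false
set_option linter.unusedSectionVars false
set_option maxHeartbeats 800000

namespace CfsgLib.NatSL2

open Matrix CfsgLib.Classical

variable {F : Type*} [Field F]

theorem smul_inj {w : Pl F} (hw : w ≠ 0) {a b : F} (h : a • w = b • w) : a = b :=
  smul_left_injective F hw h

theorem add_self_char_two [CharP F 2] {M : Type*} [AddCommGroup M] [Module F M] (v : M) :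
    v + v = 0 := by
  rw [← two_smul F, CharTwo.two_eq_zero, zero_smul]

theorem exists_twisted_ne [CharP F 2] (σ : F ≃+* F) (hσ : ¬ ∀ a, σ a = a) (A : F) :
    ∃ y, y + σ y * A ≠ 0 := by
  by_contra h
  push_neg at h
  refine hσ fun a => ?_
  have h1 := h 1
  rw [map_one, one_mul, CharTwo.add_eq_zero] at h1
  have h2 := h a
  rw [← h1, mul_one, CharTwo.add_eq_zero] at h2
  exact h2.symm

theorem card_ge_four [Finite F] [CharP F 2] (σ : F ≃+* F) (hσ : ¬ ∀ a, σ a = a) :
    4 ≤ Nat.card F := by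
  obtain ⟨k, hk, hc⟩ := card_eq_charPow (p := 2) (F := F)
  rcases Nat.lt_or_ge k 2 with h | h
  · refine absurd ?_ hσ
    interval_cases k
    intro a
    classical
    by_contra hne
    haveI := Fintype.ofFinite F
    have h3 : ({0, 1, a} : Finset F).card ≤ Fintype.card F := Finset.card_le_univ _
    rw [← Nat.card_eq_fintype_card, hc, Finset.card_insert_of_notMem, Finset.card_insert_of_notMem,
      Finset.card_singleton] at h3
    · norm_num at h3
    · simp only [Finset.mem_singleton]; rintro rfl; exact hne (map_one σ)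
    · simp only [Finset.mem_insert, Finset.mem_singleton, zero_ne_one, false_or]
      rintro rfl; exact hne (map_zero σ)
  · rw [hc]
    calc 4 = 2 ^ 2 := rfl
      _ ≤ _ := Nat.pow_le_pow_right two_pos h

theorem fixed_zero_one [Finite F] [CharP F 2] (h4 : Nat.card F = 4) (σ : F ≃+* F)
    (hσ : ¬ ∀ a, σ a = a) {a : F} (ha : σ a = a) : a = 0 ∨ a = 1 := by
  classical
  by_contra hne
  push_neg at hne
  haveI := Fintype.ofFinite F
  have h3 : ({0, 1, a, a + 1} : Finset F) = Finset.univ := by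
    refine Finset.eq_univ_of_card _ ?_
    have e : a + 1 ≠ 0 := fun e => hne.2 (CharTwo.add_eq_zero.1 e)
    rw [← Nat.card_eq_fintype_card, h4, Finset.card_insert_of_notMem, Finset.card_insert_of_notMem,
      Finset.card_insert_of_notMem, Finset.card_singleton]
    · simp
    · simp [Ne.symm hne.2, hne.1]
    · simp [Ne.symm hne.1, Ne.symm e]
  refine hσ fun b => ?_
  have hb := Finset.mem_univ b
  rw [← h3] at hb
  simp only [Finset.mem_insert, Finset.mem_singleton] at hb
  rcases hb with rfl | rfl | rfl | rfl <;> simp [ha]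

/-- The diagonal element. -/
def dia (a : F) (ha : a ≠ 0) : Matrix.SpecialLinearGroup (Fin 2) F :=
  ⟨!![a, 0; 0, a⁻¹], by simp [Matrix.det_fin_two_of, ha]⟩

theorem dia_trv (a : F) (ha : a ≠ 0) (d : F) :
    dia a ha * trv e0 d = trv e0 (a * a * d) * dia a ha := by
  refine Subtype.ext ?_
  rw [Matrix.SpecialLinearGroup.coe_mul, Matrix.SpecialLinearGroup.coe_mul]
  ext i j
  fin_cases i <;> fin_cases j <;>
    simp [dia, trv, e0, Matrix.mul_apply, Fin.sum_univ_two] <;> field_simp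

theorem dia_pow_three {a : F} (ha : a ≠ 0) (h : a ^ 3 = 1) : dia a ha ^ 3 = 1 := by
  refine Subtype.ext ?_
  rw [Matrix.SpecialLinearGroup.coe_pow, Matrix.SpecialLinearGroup.coe_one]
  have hd : (dia a ha).1 = Matrix.diagonal ![a, a⁻¹] := by
    ext i j
    fin_cases i <;> fin_cases j <;> simp [dia]
  rw [hd, Matrix.diagonal_pow, ← Matrix.diagonal_one]
  congr 1
  funext i
  fin_cases i <;> simp [h, inv_pow]

theorem exists_order_five [CharP F 2] {a : F} (h : a * a = a + 1) :
    ∃ g : Matrix.SpecialLinearGroup (Fin 2) F, orderOf g = 5 := by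
  refine ⟨⟨!![a, 1; 1, 0], by simp [Matrix.det_fin_two_of, CharTwo.neg_eq]⟩, ?_⟩
  haveI : Fact (Nat.Prime 5) := ⟨by norm_num⟩
  refine orderOf_eq_prime (Subtype.ext ?_) (fun e => ?_)
  · show !![a, 1; 1, 0] ^ 5 = (1 : Matrix (Fin 2) (Fin 2) F)
    have h2 : (2 : F) = 0 := CharTwo.two_eq_zero
    ext i j
    fin_cases i <;> fin_cases j <;>
      simp [pow_succ, Matrix.mul_apply, Fin.sum_univ_two]
    · linear_combination (a ^ 3 + a ^ 2 + a * 6 + 7) * h + (a * 8 + 3) * h2
    · linear_combination (a ^ 2 + a + 5) * h + (a * 3 + 3) * h2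
    · linear_combination (a ^ 2 + a + 5) * h + (a * 3 + 3) * h2
    · linear_combination (a + 1) * h + (a * 2) * h2
  · have := congrFun (congrFun (congrArg Subtype.val e) 0) 1
    simp at this

/-- The subgroup fixing the axis pointwise and acting trivially modulo it. -/
def radical (F : Type*) [Field F] : Subgroup (Equiv.Perm (Pl F)) where
  carrier := {r | IsAdd r ∧ (∀ v : Pl F, v 1 = 0 → r v = v) ∧ ∀ v : Pl F, r v 1 = v 1}
  one_mem' := ⟨fun _ _ => rfl, fun _ _ => rfl, fun _ => rfl⟩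
  mul_mem' := fun {a b} ha hb => ⟨fun v w => by
      simp only [Equiv.Perm.mul_apply]; rw [hb.1, ha.1],
    fun v hv => by rw [Equiv.Perm.mul_apply, hb.2.1 v hv, ha.2.1 v hv],
    fun v => by rw [Equiv.Perm.mul_apply, ha.2.2, hb.2.2]⟩
  inv_mem' := fun {a} ha => ⟨ha.1.inv, fun v hv => by
      conv_lhs => rw [← ha.2.1 v hv]
      rw [pinv_apply],
    fun v => by conv_rhs => rw [← apply_pinv a v, ha.2.2]⟩

theorem radical_sq [CharP F 2] {r : Equiv.Perm (Pl F)} (hr : r ∈ radical F) : r * r = 1 := by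
  obtain ⟨ha, hf, hq⟩ := hr
  refine Equiv.ext fun v => ?_
  have h1 : (r v - v) 1 = 0 := by rw [Pi.sub_apply, hq, sub_self]
  have h2 := hf _ h1
  rw [ha.map_sub] at h2
  rw [Equiv.Perm.mul_apply, Equiv.Perm.one_apply, sub_eq_iff_eq_add.1 h2, sub_add_eq_add_sub,
    add_self_char_two (F := F), zero_sub, ← neg_one_smul F, CharTwo.neg_eq, one_smul]

namespace Setting

variable [Finite F]

section

variable {p : ℕ} [Fact p.Prime] [CharP F p] (E : Setting F p)

/-- Commuting with an element of the root group forces fixing the axis. -/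
theorem mem_H0_of_commute {t : Equiv.Perm (Pl F)} (ht : t ∈ E.H) {c : F} (hc : c ≠ 0)
    (hcomm : t * uu c = uu c * t) : t ∈ E.H0 := by
  refine E.mem_H0_of ht fun v hv => ?_
  have h := Equiv.congr_fun hcomm v
  rw [Equiv.Perm.mul_apply, Equiv.Perm.mul_apply, uu_fix c hv, uu_apply, eq_comm, add_eq_left,
    smul_eq_zero] at h
  exact (mul_eq_zero.1 (h.resolve_right e0_ne)).resolve_left hc

theorem uu_mem_radical (c : F) : uu c ∈ E.H ⊓ radical F :=
  ⟨E.uu_mem c, act_add _, fun _ => uu_fix c, fun v => by simp [uu_apply, e0]⟩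

/-- If no image of the axis is new, lines are preserved. -/
theorem presLines_of_cover
    (hcov : ∀ h ∈ E.H, ∃ g, (act F g)⁻¹ * h ∈ E.H0) : ∀ h ∈ E.H, PresLines h := by
  intro h hh w a
  by_cases hw : w = 0
  · exact ⟨0, by rw [hw, smul_zero, (E.add h hh).map_zero, zero_smul]⟩
  obtain ⟨g, hg⟩ := exists_act_e0 hw
  obtain ⟨g', hg'⟩ := hcov (h * act F g) (mul_mem hh (E.range_le ⟨g, rfl⟩))
  have key : ∀ b : F, ∃ d : F, h (b • w) = d • act F g' e0 := fun b => by
    set k := (act F g')⁻¹ * (h * act F g) with hk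
    have h1 : k (b • e0) 1 = 0 := (hg'.2 _).2 (by simp [e0])
    refine ⟨k (b • e0) 0, ?_⟩
    rw [← act_smul, ← eq_smul_e0 h1, hk, Equiv.Perm.mul_apply, Equiv.Perm.mul_apply, apply_pinv,
      act_smul, hg]
  obtain ⟨d, hd⟩ := key a
  obtain ⟨d1, hd1⟩ := key 1
  rw [one_smul] at hd1
  have hd0 : d1 ≠ 0 := fun e => (E.add h hh).apply_ne hw (by rw [hd1, e, zero_smul])
  exact ⟨d / d1, by rw [hd, hd1, smul_smul, div_mul_cancel₀ _ hd0]⟩

end

variable [CharP F 2] (E : Setting F 2)

theorem radical_le_S {r : Equiv.Perm (Pl F)} (hr : r ∈ E.H ⊓ radical F) : ∃ d, r = uu d := by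
  set R := E.H ⊓ radical F
  have hR0 : R ≤ E.H0 := fun r hr => E.mem_H0_of hr.1 fun v hv => by rw [hr.2.2.1 v hv, hv]
  have hp : IsPGroup 2 R := fun r => ⟨1, Subtype.ext (by
    rw [Subgroup.coe_pow, pow_one, sq]; exact radical_sq r.2.2)⟩
  obtain ⟨y, hy, hyS⟩ := E.conj_into_S hR0 hp
  have hr' : y⁻¹ * r * y ∈ R := by
    refine Subgroup.mem_inf.2
      ⟨mul_mem (mul_mem (inv_mem hy.1) hr.1) hy.1, fun v w => ?_, fun v hv => ?_, fun v => ?_⟩
    · simp only [Equiv.Perm.mul_apply]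
      rw [E.add y hy.1 v w, hr.2.1, (E.add y hy.1).inv]
    · rw [Equiv.Perm.mul_apply, Equiv.Perm.mul_apply, hr.2.2.1 _ ((hy.2 v).2 hv), pinv_apply]
    · simp only [Equiv.Perm.mul_apply]
      have h1 : (r (y v) - y v) 1 = 0 := by rw [Pi.sub_apply, hr.2.2.2, sub_self]
      have h2 := ((E.H0.inv_mem hy).2 _).2 h1
      rw [(E.add y hy.1).inv.map_sub, pinv_apply, Pi.sub_apply, sub_eq_zero] at h2
      exact h2
  have hrS : r ∈ E.S := by
    have := hyS _ hr'
    rwa [show y * (y⁻¹ * r * y) * y⁻¹ = r by group] at this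
  obtain ⟨σ, hσ⟩ := exists_sigma (E.add r hr.1) (E.presLines_S hrS)
  refine E.eq_uu hrS fun a v => ?_
  rw [hσ]
  have h1 : r (a • e0) = a • e0 := hr.2.2.1 _ (by simp [e0])
  rw [hσ, hr.2.2.1 e0 (by simp [e0])] at h1
  rw [smul_inj e0_ne h1]

theorem conj_uu {y : Equiv.Perm (Pl F)} (hy : y ∈ E.H0) (c : F) :
    ∃ d, y * uu c * y⁻¹ = uu d := by
  refine E.radical_le_S (Subgroup.mem_inf.2 ⟨mul_mem (mul_mem hy.1 (E.uu_mem c)) (inv_mem hy.1), fun v w => ?_,
    fun v hv => ?_, fun v => ?_⟩)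
  · simp only [Equiv.Perm.mul_apply]
    rw [(E.add y hy.1).inv, act_add, E.add y hy.1]
  · rw [Equiv.Perm.mul_apply, Equiv.Perm.mul_apply,
      uu_fix c (((E.H0.inv_mem hy).2 v).2 hv), apply_pinv]
  · simp only [Equiv.Perm.mul_apply]
    have h1 : (uu c (y⁻¹ v) - y⁻¹ v) 1 = 0 := by rw [uu_apply, add_sub_cancel_left]; simp [e0]
    have h2 := (hy.2 _).2 h1
    rw [(E.add y hy.1).map_sub, apply_pinv, Pi.sub_apply, sub_eq_zero] at h2
    exact h2

/-- The data of a fused field automorphism. -/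
structure Fusion where
  /-- the involution -/
  x : Equiv.Perm (Pl F)
  /-- the conjugating element -/
  h : Equiv.Perm (Pl F)
  /-- the parameter -/
  c : F
  h_mem : h ∈ E.H
  c_ne : c ≠ 0
  x_eq : x = h * uu c * h⁻¹
  x_mem : x ∈ E.S
  not_U : ∀ d, x ≠ uu d
  /-- the field automorphism -/
  σ : F ≃+* F
  semi : ∀ (a : F) (v : Pl F), x (a • v) = σ a • x v

variable {E} (D : E.Fusion)

namespace Fusion

include D

theorem sq : D.x * D.x = 1 := by
  rw [D.x_eq]
  calc D.h * uu D.c * D.h⁻¹ * (D.h * uu D.c * D.h⁻¹) = D.h * (uu D.c * uu D.c) * D.h⁻¹ := by group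
    _ = 1 := by rw [uu_mul, CharTwo.add_self_eq_zero, uu_one, mul_one, mul_inv_cancel]

theorem x_x (v : Pl F) : D.x (D.x v) = v := by
  rw [← Equiv.Perm.mul_apply, D.sq, Equiv.Perm.one_apply]

theorem x_inv : D.x⁻¹ = D.x := inv_eq_of_mul_eq_one_right D.sq

theorem x_add : IsAdd D.x := E.add _ (E.S_le D.x_mem)

theorem σ_ne : ¬ ∀ a, D.σ a = a := fun hσ => by
  obtain ⟨d, hd⟩ := E.eq_uu D.x_mem fun a v => by rw [D.semi, hσ]
  exact D.not_U d hd

theorem σσ (a : F) : D.σ (D.σ a) = a := by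
  have h := D.x_x (a • e0)
  rw [D.semi, D.semi, D.x_x] at h
  exact smul_inj e0_ne h

theorem exists_fix_in : ∃ w : Pl F, w ≠ 0 ∧ w 1 = 0 ∧ D.x w = w := by
  obtain ⟨y, hy⟩ := exists_twisted_ne D.σ D.σ_ne (D.x e0 0)
  refine ⟨y • e0 + D.x (y • e0), fun e => hy ?_, ?_, ?_⟩
  · have := congrFun e 0
    rw [D.semi] at this
    simpa [e0] using this
  · rw [D.semi, Pi.add_apply, Pi.smul_apply, Pi.smul_apply, E.fix_axis D.x_mem]
    simp [e0]
  · rw [D.x_add, D.x_x, add_comm]

theorem exists_fix_out : ∃ v : Pl F, v 1 ≠ 0 ∧ D.x v = v := by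
  obtain ⟨y, hy⟩ := exists_twisted_ne D.σ D.σ_ne (D.x e1 1)
  refine ⟨y • e1 + D.x (y • e1), fun e => hy ?_, by rw [D.x_add, D.x_x, add_comm]⟩
  rw [D.semi] at e
  simpa [e1] using e

theorem exists_tw {w : Pl F} (hw : w ≠ 0) (hfix : D.x w = w) :
    ∃ δ : F →+ F, (∀ c, D.x * act F (trv w c) * D.x⁻¹ = act F (trv w (δ c))) ∧ ∀ c, δ (δ c) = c := by
  have h := fun c => conj_trv D.x_add (E.presLines_S D.x_mem) hw c
  simp only [hfix] at h
  choose f hf using h
  have hinj : ∀ {a b : F}, act F (trv w a) = act F (trv w b) → a = b :=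
    fun e => trv_inj hw (act_injective e)
  have hadd : ∀ a b, f (a + b) = f a + f b := fun a b => hinj (by
    rw [← hf, ← trv_mul, map_mul, ← trv_mul, map_mul, ← hf, ← hf]; group)
  refine ⟨AddMonoidHom.mk' f hadd, hf, fun c => hinj ?_⟩
  show act F (trv w (f (f c))) = _
  rw [← hf, ← hf, D.x_inv]
  calc D.x * (D.x * act F (trv w c) * D.x) * D.x = (D.x * D.x) * act F (trv w c) * (D.x * D.x) := by group
    _ = _ := by rw [D.sq, one_mul, mul_one]

omit D in
theorem card_le_sq (δ : F →+ F) (hδ : ∀ c, δ (δ c) = c) :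
    Nat.card F ≤ Nat.card (δ - AddMonoidHom.id F).ker * Nat.card (δ - AddMonoidHom.id F).ker := by
  set φ := δ - AddMonoidHom.id F with hφ
  have h1 : φ.range ≤ φ.ker := by
    rintro _ ⟨c, rfl⟩
    simp [hφ, hδ, AddMonoidHom.mem_ker, CharTwo.sub_eq_add]
    rw [add_comm c (δ c), CharTwo.add_self_eq_zero]
  rw [← φ.ker.card_mul_index, AddSubgroup.index_ker]
  exact Nat.mul_le_mul_left _ (AddSubgroup.card_le_of_le h1)

omit D in
theorem mem_ker_iff (δ : F →+ F) {c : F} : c ∈ (δ - AddMonoidHom.id F).ker ↔ δ c = c := by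
  simp [AddMonoidHom.mem_ker, sub_eq_zero]

theorem smul_fix {w : Pl F} (hw : w ≠ 0) (hfix : D.x w = w) {a : F} (h : D.x (a • w) = a • w) :
    D.σ a = a := by
  rw [D.semi, hfix] at h
  exact smul_inj hw h

theorem move_fix {t : Equiv.Perm (Pl F)} (hc : D.x * t * D.x⁻¹ = t) {v : Pl F} (hv : D.x v = v) :
    D.x (t v) = t v := by
  conv_rhs => rw [← hc]
  rw [D.x_inv, Equiv.Perm.mul_apply, Equiv.Perm.mul_apply, hv]

theorem pull {t : Equiv.Perm (Pl F)} (ht : t ∈ E.H) (hc : D.x * t * D.x⁻¹ = t) :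
    D.h⁻¹ * t * D.h ∈ E.H0 ∧ D.h⁻¹ * t * D.h * uu D.c = uu D.c * (D.h⁻¹ * t * D.h) := by
  have h1 : D.h⁻¹ * t * D.h * uu D.c = uu D.c * (D.h⁻¹ * t * D.h) := by
    have h2 : D.x * t = t * D.x := mul_inv_eq_iff_eq_mul.1 hc
    rw [D.x_eq] at h2
    calc D.h⁻¹ * t * D.h * uu D.c = D.h⁻¹ * (t * (D.h * uu D.c * D.h⁻¹)) * D.h := by group
      _ = _ := by rw [← h2]; group
  exact ⟨mem_H0_of_commute E (mul_mem (mul_mem (inv_mem D.h_mem) ht) D.h_mem) D.c_ne h1, h1⟩

omit D in
theorem card_auto_sq_le : Nat.card {τ : F ≃+* F // τ * τ = 1} ≤ 2 := by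
  letI := ZMod.algebra F 2
  haveI : Finite (F ≃+* F) := Finite.of_injective _ DFunLike.coe_injective
  haveI : Fintype (F ≃+* F) := Fintype.ofFinite _
  haveI : IsCyclic (F ≃+* F) :=
    isCyclic_of_surjective (CfsgLib.KnownB.PSLAut.galEquiv (p := 2) (F := F)).symm.toMonoidHom
      (CfsgLib.KnownB.PSLAut.galEquiv (p := 2) (F := F)).symm.surjective
  classical
  rw [Nat.card_eq_fintype_card, Fintype.card_subtype]
  simpa only [pow_two] using IsCyclic.card_pow_eq_one_le (α := F ≃+* F) two_pos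

theorem card_field : Nat.card F = 4 := by
  classical
  obtain ⟨w, hw, hw1, hwf⟩ := D.exists_fix_in
  obtain ⟨v, hv, hvf⟩ := D.exists_fix_out
  obtain ⟨δ, hδ, hδδ⟩ := D.exists_tw hw hwf
  set K := (δ - AddMonoidHom.id F).ker with hK
  let ψ : Multiplicative K →* Equiv.Perm (Pl F) :=
    { toFun := fun a => D.h⁻¹ * act F (trv w (Multiplicative.toAdd a : K).1) * D.h
      map_one' := by
        show D.h⁻¹ * act F (trv w 0) * D.h = 1
        rw [trv_zero, map_one, mul_one, inv_mul_cancel]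
      map_mul' := fun a b => by
        show D.h⁻¹ * act F (trv w ((Multiplicative.toAdd a : K).1 + (Multiplicative.toAdd b : K).1)) * D.h = _
        rw [← trv_mul, map_mul]; group }
  have hT : ψ.range ≤ E.H0 := by
    rintro _ ⟨a, rfl⟩
    exact (D.pull (E.range_le ⟨_, rfl⟩) (by
      rw [hδ, (mem_ker_iff δ).1 (Multiplicative.toAdd a : K).2])).1
  have hp : IsPGroup 2 ψ.range := by
    rintro ⟨_, a, rfl⟩
    refine ⟨1, Subtype.ext ?_⟩
    rw [Subgroup.coe_pow, pow_one, pow_two, OneMemClass.coe_one, ← map_mul,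
      show a * a = 1 from Multiplicative.toAdd.injective (Subtype.ext (CharTwo.add_self_eq_zero _)),
      map_one]
  obtain ⟨y, hy, hyS⟩ := E.conj_into_S hT hp
  have hv0 : (y * D.h⁻¹) v 1 = 0 := by
    refine (hy.2 _).2 ?_
    have h1 := hvf
    rw [D.x_eq, Equiv.Perm.mul_apply, Equiv.Perm.mul_apply, ← eq_comm (a := v)] at h1
    have h2 : uu D.c (D.h⁻¹ v) = D.h⁻¹ v := D.h.injective (h1.symm.trans (apply_pinv _ _).symm)
    rw [uu_apply, add_eq_left, smul_eq_zero] at h2
    exact (mul_eq_zero.1 (h2.resolve_right e0_ne)).resolve_left D.c_ne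
  have hz : ∀ a : Multiplicative K, y * ψ a * y⁻¹ ∈ E.S := fun a => hyS _ ⟨a, rfl⟩
  choose τ hτ using fun a => exists_sigma (E.add _ (E.S_le (hz a))) (E.presLines_S (hz a))
  have hinj : Function.Injective fun a => (⟨τ a, by
      refine RingEquiv.ext fun b => smul_inj (e0_ne (F := F)) ?_
      have hs : ∀ u, (y * ψ a * y⁻¹) ((y * ψ a * y⁻¹) u) = u := fun u => by
        rw [← Equiv.Perm.mul_apply, show y * ψ a * y⁻¹ * (y * ψ a * y⁻¹) = y * (ψ a * ψ a) * y⁻¹ by group,
          ← map_mul, show a * a = 1 from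
            Multiplicative.toAdd.injective (Subtype.ext (CharTwo.add_self_eq_zero _)), map_one,
          mul_one, mul_inv_cancel, Equiv.Perm.one_apply]
      have h1 := hs (b • e0)
      rw [hτ, hτ, hs] at h1
      simpa using h1⟩ : {τ : F ≃+* F // τ * τ = 1}) := by
    intro a b e
    have e' : τ a = τ b := congrArg Subtype.val e
    obtain ⟨d, hd⟩ := E.eq_uu (mul_mem (inv_mem (hz a)) (hz b)) fun r u => by
      refine (y * ψ a * y⁻¹).injective ?_
      rw [Equiv.Perm.mul_apply (y * ψ a * y⁻¹)⁻¹, Equiv.Perm.mul_apply (y * ψ a * y⁻¹)⁻¹,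
        apply_pinv, hτ b, hτ a, apply_pinv, e']
    have h1 : (y * ψ a * y⁻¹) ((y * D.h⁻¹) v) = (y * ψ b * y⁻¹) ((y * D.h⁻¹) v) := by
      conv_rhs => rw [show y * ψ b * y⁻¹ = y * ψ a * y⁻¹ * ((y * ψ a * y⁻¹)⁻¹ * (y * ψ b * y⁻¹))
        by group, hd, Equiv.Perm.mul_apply, uu_fix d hv0]
    have key : ∀ a : Multiplicative K, (y * ψ a * y⁻¹) ((y * D.h⁻¹) v) =
        (y * D.h⁻¹) (act F (trv w (Multiplicative.toAdd a : K).1) v) := fun a => by
      rw [← Equiv.Perm.mul_apply, ← Equiv.Perm.mul_apply]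
      congr 1
      show y * (D.h⁻¹ * act F (trv w (Multiplicative.toAdd a : K).1) * D.h) * y⁻¹ * (y * D.h⁻¹) = _
      group
    rw [key, key] at h1
    have h2 := (y * D.h⁻¹).injective h1
    rw [trv_apply, trv_apply, add_right_inj] at h2
    have hd0 : dt w v ≠ 0 := fun h0 => by
      obtain ⟨r, rfl⟩ := (dt_eq_zero_iff hw).1 h0
      simp [hw1] at hv
    exact Multiplicative.toAdd.injective (Subtype.ext (mul_right_cancel₀ hd0 (smul_inj hw h2)))
  have hK2 : Nat.card K ≤ 2 := by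
    haveI : Finite (F ≃+* F) := Finite.of_injective _ DFunLike.coe_injective
    exact le_trans (Nat.card_le_card_of_injective _ hinj) card_auto_sq_le
  have h4 := card_ge_four D.σ D.σ_ne
  have h5 : Nat.card F ≤ Nat.card K * Nat.card K := card_le_sq δ hδδ
  nlinarith

theorem exists_three : ∃ z ∈ E.H0, z ^ 3 = 1 ∧ z ≠ 1 ∧ z * uu D.c = uu D.c * z := by
  obtain ⟨w, hw, hw1, hwf⟩ := D.exists_fix_in
  obtain ⟨v, hv, hvf⟩ := D.exists_fix_out
  have hv0 : v ≠ 0 := fun e => hv (by rw [e]; rfl)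
  have hd0 : dt w v ≠ 0 := fun h0 => by
    obtain ⟨r, rfl⟩ := (dt_eq_zero_iff hw).1 h0
    simp [hw1] at hv
  have step : ∀ {a b : Pl F}, a ≠ 0 → D.x a = a → D.x b = b → dt a b ≠ 0 →
      ∃ c, D.x * act F (trv a c) * D.x⁻¹ = act F (trv a c) ∧ act F (trv a c) b = b + a := by
    intro a b ha haf hbf hab
    obtain ⟨δ, hδ, hδδ⟩ := D.exists_tw ha haf
    obtain ⟨c, hcK, hc⟩ : ∃ c ∈ (δ - AddMonoidHom.id F).ker, c ≠ 0 := by
      by_contra hn
      push_neg at hn
      have := card_le_sq δ hδδ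
      rw [(AddSubgroup.eq_bot_iff_forall _).2 hn, AddSubgroup.card_bot, D.card_field] at this
      omega
    have hfix : D.x * act F (trv a c) * D.x⁻¹ = act F (trv a c) := by
      rw [hδ, (mem_ker_iff δ).1 hcK]
    refine ⟨c, hfix, ?_⟩
    have h1 := D.move_fix hfix hbf
    rw [trv_apply, D.x_add, hbf, add_right_inj] at h1
    rcases fixed_zero_one D.card_field D.σ D.σ_ne (D.smul_fix ha haf h1) with h | h
    · exact absurd h (mul_ne_zero hc hab)
    · rw [trv_apply, h, one_smul]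
  obtain ⟨c, hc, hcv⟩ := step hw hwf hvf hd0
  obtain ⟨c', hc', hcw⟩ := step hv0 hvf hwf (fun h0 => hd0 (by
    unfold dt at h0 ⊢; linear_combination -h0))
  set g := trv w c * trv v c' with hg
  have hgw : act F g w = v := by
    rw [hg, map_mul, Equiv.Perm.mul_apply, hcw, act_add, hcv,
      show act F (trv w c) w = w by rw [trv_apply, dt_self, mul_zero, zero_smul, add_zero],
      add_left_comm, add_self_char_two (F := F), add_zero]
  have hgv : act F g v = v + w := by
    rw [hg, map_mul, Equiv.Perm.mul_apply,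
      show act F (trv v c') v = v by rw [trv_apply, dt_self, mul_zero, zero_smul, add_zero], hcv]
  have hg3 : g ^ 3 = 1 := by
    by_contra hne
    refine hd0 (fix_dt_zero hne hw ?_ ?_) <;>
      simp only [pow_succ, pow_zero, one_mul, map_mul, Equiv.Perm.mul_apply, hgw, hgv, act_add]
    · rw [show v + w + v = w + (v + v) by abel, add_self_char_two (F := F), add_zero]
    · rw [show v + w + v + (v + w) = v + (v + v) + (w + w) by abel, add_self_char_two (F := F) v,
        add_self_char_two (F := F) w, add_zero, add_zero]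
  obtain ⟨h0, hcomm⟩ := D.pull (E.range_le ⟨g, rfl⟩) (by
    rw [hg, map_mul]
    calc D.x * (act F (trv w c) * act F (trv v c')) * D.x⁻¹ =
        (D.x * act F (trv w c) * D.x⁻¹) * (D.x * act F (trv v c') * D.x⁻¹) := by group
      _ = _ := by rw [hc, hc'])
  refine ⟨_, h0, ?_, fun e => ?_, hcomm⟩
  · have := conj_pow (a := D.h⁻¹) (b := act F g) (i := 3)
    rw [inv_inv] at this
    rw [this, ← map_pow, hg3, map_one, mul_one, inv_mul_cancel]
  · rw [mul_assoc, inv_mul_eq_one, eq_comm, mul_eq_right] at e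
    rw [e, Equiv.Perm.one_apply] at hgw
    exact hd0 (by rw [← hgw, dt_self])

theorem exists_gen : ∃ a : F, a ≠ 0 ∧ a ≠ 1 ∧ a ^ 3 = 1 ∧ a * a = a + 1 := by
  classical
  haveI := Fintype.ofFinite F
  obtain ⟨a, ha⟩ : ∃ a : F, D.σ a ≠ a := by simpa using D.σ_ne
  have ha0 : a ≠ 0 := fun e => ha (by rw [e, map_zero])
  have ha1 : a ≠ 1 := fun e => ha (by rw [e, map_one])
  have h3 : a ^ 3 = 1 := by
    have := FiniteField.pow_card_sub_one_eq_one a ha0
    rwa [← Nat.card_eq_fintype_card, D.card_field] at this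
  refine ⟨a, ha0, ha1, h3, ?_⟩
  have h4 : (a - 1) * (a * a + a + 1) = 0 := by linear_combination h3
  have h5 := (mul_eq_zero.1 h4).resolve_left (sub_ne_zero.2 ha1)
  rw [add_assoc, CharTwo.add_eq_zero] at h5
  exact h5

theorem card_S : Nat.card E.S = 8 := by
  classical
  have hle : Nat.card E.S ≤ 8 := by
    choose τ hτ using fun s : E.S => exists_sigma (E.add _ (E.S_le s.2)) (E.presLines_S s.2)
    haveI : Finite (F ≃+* F) := Finite.of_injective _ DFunLike.coe_injective
    have hinj : Function.Injective fun s : E.S => ((s.1 e1 0, τ s) : F × (F ≃+* F)) := by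
      intro s t e
      simp only [Prod.mk.injEq] at e
      obtain ⟨d, hd⟩ := E.eq_uu (mul_mem (inv_mem s.2) t.2) fun r u => by
        refine s.1.injective ?_
        rw [Equiv.Perm.mul_apply, apply_pinv, hτ t, hτ s, Equiv.Perm.mul_apply, apply_pinv, e.2]
      have ht : t.1 = s.1 * uu d := by rw [← hd]; group
      have h1 := e.1
      rw [ht, Equiv.Perm.mul_apply, uu_apply, E.add _ (E.S_le s.2), hτ s, Pi.add_apply,
        left_eq_add] at h1
      have he : s.1 e0 ≠ 0 := (E.add _ (E.S_le s.2)).apply_ne e0_ne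
      have hA : s.1 e0 0 ≠ 0 := fun h => he (by
        rw [eq_smul_e0 (E.fix_axis s.2), h, zero_smul])
      simp [hA, e1] at h1
      exact Subtype.ext (by rw [ht, h1, uu_one, mul_one])
    refine (Nat.card_le_card_of_injective _ hinj).trans ?_
    haveI := Fintype.ofFinite F
    rw [Nat.card_prod, D.card_field, CfsgLib.KnownB.PSLAut.card_gal (p := 2) (f := 2) (by norm_num)
      (by rw [← Nat.card_eq_fintype_card, D.card_field]; norm_num)]
  have hgt : 4 < Nat.card E.S := by
    have hinj : Function.Injective fun o : Option F =>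
        (o.elim ⟨D.x, D.x_mem⟩ fun c => ⟨uu c, E.U_le c⟩ : E.S) := by
      intro a b e
      cases a with
      | none => cases b with
        | none => rfl
        | some b => exact absurd (congrArg Subtype.val e) (D.not_U b)
      | some a => cases b with
        | none => exact absurd (congrArg Subtype.val e).symm (D.not_U a)
        | some b => exact congrArg some (trv_inj e0_ne (act_injective (congrArg Subtype.val e)))
    have := Nat.card_le_card_of_injective _ hinj
    rw [Finite.card_option, D.card_field] at this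
    omega
  obtain ⟨k, hk⟩ := IsPGroup.iff_card.1 E.S_p
  rw [hk] at hle hgt ⊢
  have h1 : 2 < k := (Nat.pow_lt_pow_iff_right (by norm_num : 1 < 2)).1 (show 2 ^ 2 < 2 ^ k from hgt)
  have h2 : k ≤ 3 := (Nat.pow_le_pow_iff_right (by norm_num : 1 < 2)).1 (show 2 ^ k ≤ 2 ^ 3 from hle)
  rw [show k = 3 by omega]
  norm_num

theorem nine_dvd : 9 ∣ Nat.card E.H0 := by
  by_contra h9
  haveI : Fact (Nat.Prime 3) := ⟨Nat.prime_three⟩
  obtain ⟨z, hz, hz3, hz1, hzc⟩ := D.exists_three
  obtain ⟨a, ha0, ha1, ha3, _⟩ := D.exists_gen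
  have ht : act F (dia a ha0) ∈ E.H0 := E.mem_H0_of (E.range_le ⟨_, rfl⟩) fun u hu => by
    rw [act_apply]
    simp [dia, Matrix.mulVec, dotProduct, Fin.sum_univ_two, hu]
  have ht1 : act F (dia a ha0) ≠ 1 := fun e => by
    rw [← map_one (act F)] at e
    have := congrFun (congrFun (congrArg Subtype.val (act_injective e)) 0) 0
    simp [dia] at this
    exact ha1 this
  have ht3 : act F (dia a ha0) ^ 3 = 1 := by rw [← map_pow, dia_pow_three ha0 ha3, map_one]
  set z' : E.H0 := ⟨z, hz⟩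
  set t' : E.H0 := ⟨_, ht⟩
  have oz : orderOf z' = 3 := orderOf_eq_prime (Subtype.ext hz3) fun e => hz1 (congrArg Subtype.val e)
  have ot : orderOf t' = 3 := orderOf_eq_prime (Subtype.ext ht3) fun e => ht1 (congrArg Subtype.val e)
  have hf : 3 ^ (Nat.card E.H0).factorization 3 = 3 := by
    have h1 : 3 ∣ Nat.card E.H0 := oz ▸ orderOf_dvd_natCard z'
    have h2 := (Nat.prime_three.pow_dvd_iff_le_factorization Nat.card_pos.ne').not.1 (show ¬ 3 ^ 2 ∣ _ from h9)
    have h3 := (Nat.prime_three.pow_dvd_iff_le_factorization Nat.card_pos.ne').1 (show 3 ^ 1 ∣ _ from h1)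
    rw [show (Nat.card E.H0).factorization 3 = 1 by omega, pow_one]
  let P : Sylow 3 E.H0 := Sylow.ofCard (Subgroup.zpowers z') (by rw [Nat.card_zpowers, oz, hf])
  let Q : Sylow 3 E.H0 := Sylow.ofCard (Subgroup.zpowers t') (by rw [Nat.card_zpowers, ot, hf])
  obtain ⟨y, hy⟩ := MulAction.exists_smul_eq E.H0 P Q
  have hmem : t' ∈ ((y • P : Sylow 3 E.H0) : Subgroup E.H0) := by
    rw [hy]; exact Subgroup.mem_zpowers t'
  obtain ⟨s, hs, hse⟩ := (CfsgLib.Classical.mem_sylow_smul 3).1 hmem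
  obtain ⟨j, hj⟩ := hs
  obtain ⟨d, hd⟩ := E.conj_uu y.2 D.c
  have hd0 : d ≠ 0 := fun e => by
    rw [e, uu_one, mul_inv_eq_one, mul_eq_left, ← uu_one (F := F)] at hd
    exact D.c_ne (trv_inj e0_ne (act_injective hd))
  have hcd : Commute (act F (dia a ha0)) (uu d) := by
    have e2 : act F (dia a ha0) = (y : Equiv.Perm (Pl F)) * z ^ j * (y : Equiv.Perm (Pl F))⁻¹ := by
      have := congrArg Subtype.val hse
      rw [← hj] at this
      simpa [z', t'] using this.symm
    rw [e2, ← hd]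
    exact ((show Commute z (uu D.c) from hzc).zpow_left j).conj _
  have e := hcd.eq
  rw [uu, ← map_mul, ← map_mul, dia_trv] at e
  have e3 := trv_inj e0_ne (mul_right_cancel (act_injective e))
  have ha2 : (a - 1) * (a - 1) = 0 := by
    have e4 : a * a = 1 := mul_right_cancel₀ hd0 (by rw [one_mul]; exact e3)
    linear_combination e4 + (1 - a) * (CharTwo.two_eq_zero (R := F))
  exact ha1 (sub_eq_zero.1 (mul_self_eq_zero.1 ha2))

theorem five_dvd : 5 ∣ Nat.card E.H := by
  obtain ⟨a, _, _, _, ha⟩ := D.exists_gen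
  obtain ⟨g, hg⟩ := exists_order_five ha
  rw [← hg, ← orderOf_injective (act F) act_injective g, ← Subgroup.orderOf_mk _ (E.range_le ⟨g, rfl⟩)]
  exact orderOf_dvd_natCard _

theorem six_le_relIndex (hnp : ¬ ∀ h ∈ E.H, PresLines h) :
    6 * Nat.card E.H0 ≤ Nat.card E.H := by
  classical
  set K := E.H0.subgroupOf E.H with hK
  let r : Option F → Matrix.SpecialLinearGroup (Fin 2) F := fun o => o.elim 1 fun a => trv e0 a * trv e1 1 * trv e0 1
  have he : ∀ a : F, act F (r (some a)) e0 = e1 + (1 + a) • e0 := fun a => by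
    show act F (trv e0 a * trv e1 1 * trv e0 1) e0 = _
    funext i
    fin_cases i <;> simp [trv_apply, dt, e0, e1, CharTwo.neg_eq, map_mul, Equiv.Perm.mul_apply] <;> ring
  have hline : ∀ o o', (act F (r o))⁻¹ * act F (r o') ∈ E.H0 → o = o' := by
    intro o o' h
    have h1 := (h.2 e0).2 (by simp [e0])
    obtain ⟨b, hb⟩ : ∃ b : F, act F (r o') e0 = b • act F (r o) e0 :=
      ⟨((act F (r o))⁻¹ * act F (r o')) e0 0, by
        rw [← act_smul, ← eq_smul_e0 h1, Equiv.Perm.mul_apply, apply_pinv]⟩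
    rcases o with - | a <;> rcases o' with - | a'
    · rfl
    · have := congrFun ((he a').symm.trans hb) 1
      simp [r, e0, e1] at this
    · rw [he a] at hb
      have hb1 := congrFun hb 1
      simp [r, e0, e1] at hb1
      have hb0 := congrFun hb 0
      simp [r, e0, e1, ← hb1] at hb0
    · rw [he a, he a'] at hb
      have hb1 := congrFun hb 1
      simp [e0, e1] at hb1
      have hb0 := congrFun hb 0
      simp [e0, e1, ← hb1] at hb0
      rw [hb0]
  let cl : Option F → E.H ⧸ K := fun o => QuotientGroup.mk ⟨act F (r o), E.range_le ⟨_, rfl⟩⟩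
  have hinj : Function.Injective cl := fun o o' e => by
    have e' := QuotientGroup.eq.1 e
    exact hline o o' e'
  have h5 := Nat.card_le_card_of_injective cl hinj
  rw [Finite.card_option, D.card_field] at h5
  by_contra hlt
  refine hnp (presLines_of_cover E fun h hh => ?_)
  have hcard : Nat.card K = Nat.card E.H0 := Nat.card_congr (Subgroup.subgroupOfEquivOfLe E.H0_le).toEquiv
  have hidx := K.card_mul_index
  rw [hcard] at hidx
  have h6 : K.index ≤ 5 := by
    by_contra h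
    exact hlt (by rw [← hidx, mul_comm 6]; exact Nat.mul_le_mul_left _ (by omega))
  have hsurj : Function.Surjective cl :=
    (hinj.bijective_of_nat_card_le (by rw [Finite.card_option, D.card_field]; exact h6)).2
  obtain ⟨o, ho⟩ := hsurj (QuotientGroup.mk ⟨h, hh⟩)
  have ho' := QuotientGroup.eq.1 ho
  exact ⟨r o, ho'⟩

theorem card_H_not (hnp : ¬ ∀ h ∈ E.H, PresLines h) (h20 : Nat.card E.H ∣ 20160) :
    Nat.card E.H = 2520 := by
  have h8 := E.card_S_H
  rw [D.card_S] at h8
  have hf : (Nat.card E.H).factorization 2 = 3 :=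
    (Nat.pow_right_injective le_rfl (show 2 ^ 3 = _ from h8)).symm
  have h80 : 8 ∣ Nat.card E.H0 := D.card_S ▸ Subgroup.card_dvd_of_le E.S_le_H0
  have h72 : 72 ∣ Nat.card E.H0 := Nat.Coprime.mul_dvd_of_dvd_of_dvd (by norm_num : Nat.Coprime 8 9) h80 D.nine_dvd
  have h72H : 72 ∣ Nat.card E.H := h72.trans (Subgroup.card_dvd_of_le E.H0_le)
  have h360 : 360 ∣ Nat.card E.H :=
    Nat.Coprime.mul_dvd_of_dvd_of_dvd (by norm_num : Nat.Coprime 72 5) h72H D.five_dvd
  have h16 : ¬ 16 ∣ Nat.card E.H := fun h => by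
    have := (Nat.prime_two.pow_dvd_iff_le_factorization Nat.card_pos.ne').1 (show 2 ^ 4 ∣ _ from h)
    omega
  have h432 : 432 ≤ Nat.card E.H :=
    le_trans (Nat.mul_le_mul_left 6 (Nat.le_of_dvd Nat.card_pos h72)) (D.six_le_relIndex hnp)
  obtain ⟨o, ho⟩ := h360
  rw [ho] at h20 h16 h432 ⊢
  have ho56 : o ∣ 56 := by
    have : 360 * o ∣ 360 * 56 := h20
    exact Nat.dvd_of_mul_dvd_mul_left (by norm_num) this
  have := Nat.le_of_dvd (by norm_num) ho56
  interval_cases o <;> omega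

end Fusion

end Setting

end CfsgLib.NatSL2
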