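import Cfsg.Agent.Lib.NatSL2.Eight
import Cfsg.Prelude.Def_LocalEven
import Cfsg.Prelude.Def_TwoFusion

/-!
A group acting on a natural `SL₂(q)`-module with Sylow subgroup normalising `SL₂(q)`.
-/

set_option autoImplicit false
set_option linter.unusedSectionVars false

namespace CfsgLib.NatSL2

open CfsgLib.Classical

variable {X : Type*} [Group X] [Finite X] {p : ℕ} [Fact p.Prime] {F : Type*} [Field F]

theorem natural_normal_or_seven [Finite F] [CharP F p] (V G L : Subgroup X)
    (hGV : G ≤ Subgroup.normalizer (V : Set X))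
    (hfaith : G ⊓ Subgroup.centralizer (V : Set X) = ⊥) (hLG : L ≤ G)
    (hnat : Cfsg.IsNaturalSL2Module F V L)
    (hSyl : ∀ S : Sylow p ↥(G ⊓ Subgroup.normalizer (L : Set X)), ∀ P : Sylow p ↥G,
      Nat.card S = Nat.card P) :
    (L.subgroupOf G).Normal ∨ (Nat.card F = 4 ∧ Nonempty (↥G ≃* ↥(alternatingGroup (Fin 7)))) := by
  classical
  obtain ⟨-, ρ, ψ, hρ, hker, hact⟩ := hnat
  have hρinj : Function.Injective ρ := by
    rw [← MonoidHom.ker_eq_bot_iff, hker, Subgroup.subgroupOf_eq_bot, disjoint_iff, eq_bot_iff]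
    exact fun x hx => hfaith ▸ (⟨hLG hx.2, hx.1⟩ : x ∈ G ⊓ Subgroup.centralizer (V : Set X))
  have hcl : ∀ g : G, ∀ v : V, (g : X) * v * (g : X)⁻¹ ∈ V := fun g v =>
    (Subgroup.mem_normalizer_iff.1 (hGV g.2) v).1 v.2
  let cv : G → V → V := fun g v => ⟨(g : X) * v * (g : X)⁻¹, hcl g v⟩
  let P : G → Pl F → Pl F := fun g v => ψ (Additive.ofMul (cv g (Additive.toMul (ψ.symm v))))
  have hPmul : ∀ g g' v, P (g * g') v = P g (P g' v) := fun g g' v => by
    simp only [P, AddEquiv.symm_apply_apply, toMul_ofMul]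
    exact congrArg (fun z => ψ (Additive.ofMul z)) (Subtype.ext (by simp [cv, mul_assoc]))
  have hPone : ∀ v, P 1 v = v := fun v => by
    simp [P, cv]
  let φ : G →* Equiv.Perm (Pl F) :=
    { toFun := fun g => ⟨P g, P g⁻¹, fun v => by rw [← hPmul, inv_mul_cancel, hPone],
        fun v => by rw [← hPmul, mul_inv_cancel, hPone]⟩
      map_one' := Equiv.ext hPone
      map_mul' := fun a b => Equiv.ext (hPmul a b) }
  have hφadd : ∀ g, IsAdd (φ g) := fun g v w => by
    show P g (v + w) = P g v + P g w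
    simp only [P]
    rw [← map_add ψ, map_add ψ.symm]
    refine congrArg ψ ?_
    rw [← ofMul_mul]
    exact congrArg Additive.ofMul (Subtype.ext (by simp [cv, mul_assoc]))
  have hφinj : Function.Injective φ := by
    rw [injective_iff_map_eq_one]
    intro g hg
    refine Subtype.ext ?_
    have : (g : X) ∈ G ⊓ Subgroup.centralizer (V : Set X) := by
      refine ⟨g.2, Subgroup.mem_centralizer_iff.2 fun v hv => ?_⟩
      have h1 := Equiv.congr_fun hg (ψ (Additive.ofMul ⟨v, hv⟩))
      have h2 : ψ (Additive.ofMul (cv g ⟨v, hv⟩)) = ψ (Additive.ofMul ⟨v, hv⟩) := by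
        simpa [φ, P] using h1
      have h3 : (g : X) * v * (g : X)⁻¹ = v :=
        congrArg Subtype.val (Additive.ofMul.injective (ψ.injective h2))
      exact (mul_inv_eq_iff_eq_mul.1 h3).symm
    rw [hfaith] at this
    exact this
  have hφL : ∀ l : L, φ ⟨l, hLG l.2⟩ = act F (ρ l) := fun l => by
    refine Equiv.ext fun v => ?_
    obtain ⟨w, hw, hw'⟩ := hact l (Additive.toMul (ψ.symm v))
    show ψ (Additive.ofMul (cv ⟨l, hLG l.2⟩ (Additive.toMul (ψ.symm v)))) = _
    rw [show cv ⟨l, hLG l.2⟩ (Additive.toMul (ψ.symm v)) = w from Subtype.ext hw.symm, hw',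
      ofMul_toMul, AddEquiv.apply_symm_apply]
    rfl
  have hrange : (act F).range ≤ φ.range := by
    rintro _ ⟨g, rfl⟩
    obtain ⟨l, rfl⟩ := hρ g
    exact ⟨_, hφL l⟩
  set GN := G ⊓ Subgroup.normalizer (L : Set X)
  have hLN : L ≤ GN := le_inf hLG Subgroup.le_normalizer
  let i : L →* GN := Subgroup.inclusion hLN
  have hU : IsPGroup p ↥((uSubgroup F).comap ρ) :=
    IsPGroup.comap_of_injective ((uSylow (F := F) p).isPGroup') ρ hρinj
  obtain ⟨Q, hQ⟩ := (hU.map i).exists_le_sylow
  let j : GN →* G := Subgroup.inclusion inf_le_left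
  let E : Setting F p :=
    { H := φ.range
      add := by rintro _ ⟨g, rfl⟩; exact hφadd g
      range_le := hrange
      S := ((Q : Subgroup GN).map j).map φ
      S_le := by rintro _ ⟨g, -, rfl⟩; exact ⟨g, rfl⟩
      S_p := (Q.isPGroup'.map j).map φ
      S_max := fun T hT hTp => by
        obtain ⟨R, hR⟩ := (hTp.comap_of_injective φ hφinj).exists_le_sylow
        have h1 : Nat.card T = Nat.card (T.comap φ) := by
          have : (T.comap φ).map φ = T := Subgroup.map_comap_eq_self hT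
          conv_lhs => rw [← this]
          exact Subgroup.card_map_of_injective hφinj
        rw [h1, Subgroup.card_map_of_injective hφinj,
          Subgroup.card_map_of_injective (Subgroup.inclusion_injective _)]
        exact (Subgroup.card_le_of_le hR).trans_eq (hSyl Q R).symm
      S_norm := by
        rintro _ ⟨_, ⟨n, -, rfl⟩, rfl⟩ g
        obtain ⟨l, rfl⟩ := hρ g
        have hm : (n : X) * l * (n : X)⁻¹ ∈ L := (Subgroup.mem_normalizer_iff.1 n.2.2 l).1 l.2
        refine ⟨ρ ⟨_, hm⟩, ?_⟩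
        rw [← hφL, ← hφL, ← map_inv, ← map_mul, ← map_mul]
        exact congrArg φ (Subtype.ext rfl)
      U_le := fun c => by
        obtain ⟨l, hl⟩ := hρ (trv e0 c)
        refine ⟨⟨l, hLG l.2⟩, ⟨i l, hQ ⟨l, ?_, rfl⟩, Subtype.ext rfl⟩, ?_⟩
        · show ρ l ∈ uSubgroup F
          rw [hl]
          exact mem_range_uSubgroup.2 ⟨c, rfl⟩
        · rw [hφL, hl] }
  by_cases hpl : ∀ h ∈ E.H, PresLines h
  · refine Or.inl ⟨fun n hn g => ?_⟩
    rw [Subgroup.mem_subgroupOf] at hn ⊢
    obtain ⟨g', hg'⟩ := conj_mem_range (hφadd g) (hpl _ ⟨g, rfl⟩) (ρ ⟨n, hn⟩)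
    obtain ⟨l, rfl⟩ := hρ g'
    rw [← hφL, ← hφL, ← map_inv, ← map_mul, ← map_mul] at hg'
    rw [← hφinj hg']
    exact l.2
  right
  have hnf : ¬ E.NoFusion := fun hf => hpl (E.presLines hf)
  have hp2 : p = 2 := by
    by_contra h
    exact hnf (E.noFusion_odd h)
  subst hp2
  unfold Setting.NoFusion at hnf
  push_neg at hnf
  obtain ⟨h, hh, c, hc, hx, hne⟩ := hnf
  obtain ⟨σ, hσ⟩ := exists_sigma (E.add _ (E.S_le hx)) (E.presLines_S hx)
  let D : E.Fusion :=
    { x := h * uu c * h⁻¹, h := h, c := c, h_mem := hh, c_ne := hc, x_eq := rfl, x_mem := hx,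
      not_U := hne, σ := σ, semi := hσ }
  obtain ⟨f, hf⟩ := exists_embedding_eight D.card_field E.H E.add
  have h8 : Nat.card (alternatingGroup (Fin 8)) = 20160 := by
    rw [nat_card_alternatingGroup, Nat.card_fin]
    rfl
  have hcH : Nat.card E.H = 2520 :=
    D.card_H_not hpl (h8 ▸ Subgroup.card_dvd_of_injective f hf)
  refine ⟨D.card_field, ?_⟩
  have hcr : Nat.card f.range = 2520 := by
    rw [← hcH]; exact (Nat.card_congr (MonoidHom.ofInjective hf).toEquiv).symm
  have hidx : f.range.index = 8 := by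
    have := f.range.card_mul_index
    rw [hcr, h8] at this
    omega
  obtain ⟨e⟩ := alt_seven_of_index f.range hidx
  exact ⟨((MonoidHom.ofInjective hφinj).trans (MonoidHom.ofInjective hf)).trans e⟩

end CfsgLib.NatSL2
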