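import Cfsg.Agent.Lib.NatSL2.Act

/-!
Groups containing `SL₂` with Sylow subgroup normalising it: semiregularity forces lines to be preserved.
-/

set_option autoImplicit false
set_option linter.unusedSectionVars false

namespace CfsgLib.NatSL2

open Matrix CfsgLib.Classical

variable {F : Type*} [Field F]

/-- The image of a member of the upper unitriangular group. -/
abbrev uu (c : F) : Equiv.Perm (Pl F) := act F (trv e0 c)

theorem uu_apply (c : F) (v : Pl F) : uu c v = v + (c * v 1) • e0 := by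
  rw [trv_apply, dt_e0]

theorem pinv_apply {α : Type*} (g : Equiv.Perm α) (v : α) : g⁻¹ (g v) = v := g.symm_apply_apply v

theorem apply_pinv {α : Type*} (g : Equiv.Perm α) (v : α) : g (g⁻¹ v) = v := g.apply_symm_apply v

theorem uu_one : uu (0 : F) = 1 := by rw [uu, trv_zero, map_one]

theorem uu_mul (c d : F) : uu c * uu d = uu (c + d) := by rw [uu, uu, ← map_mul, trv_mul]

theorem uu_inv (c : F) : (uu c)⁻¹ = uu (-c) :=
  inv_eq_of_mul_eq_one_right (by rw [uu_mul, add_neg_cancel, uu_one])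

theorem uu_pow (c : F) (n : ℕ) : uu c ^ n = uu ((n : F) * c) := by
  induction n with
  | zero => rw [pow_zero, Nat.cast_zero, zero_mul, uu_one]
  | succ n ih => rw [pow_succ, ih, uu_mul, Nat.cast_succ, add_mul, one_mul]

theorem uu_fix (c : F) {v : Pl F} (h : v 1 = 0) : uu c v = v := by
  rw [uu_apply, h, mul_zero, zero_smul, add_zero]

theorem eq_smul_e0 {v : Pl F} (h : v 1 = 0) : v = v 0 • e0 := by
  funext i; fin_cases i <;> simp [e0, h]

theorem exists_act_e0 {w : Pl F} (hw : w ≠ 0) :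
    ∃ g : Matrix.SpecialLinearGroup (Fin 2) F, act F g e0 = w := by
  obtain ⟨v₁, hv₁⟩ := exists_dual hw
  refine ⟨⟨!![w 0, v₁ 0; w 1, v₁ 1], ?_⟩, ?_⟩
  · rw [Matrix.det_fin_two_of, mul_comm (v₁ 0)]; exact hv₁
  · show !![w 0, v₁ 0; w 1, v₁ 1] *ᵥ e0 = w
    funext i
    fin_cases i <;> simp [e0, Matrix.mulVec, dotProduct, Fin.sum_univ_two]

/-- An additive line preserving permutation is semilinear. -/
theorem exists_sigma [Finite F] {x : Equiv.Perm (Pl F)} (ha : IsAdd x) (hp : PresLines x) :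
    ∃ σ : F ≃+* F, ∀ (a : F) (v : Pl F), x (a • v) = σ a • x v := by
  choose f hf using hp
  have hind : ∀ v w : Pl F, v ≠ 0 → dt v w ≠ 0 → dt (x v) (x w) ≠ 0 := by
    intro v w hv hd h0
    obtain ⟨b, hb⟩ := (dt_eq_zero_iff (ha.apply_ne hv)).1 h0
    obtain ⟨a, ha'⟩ := presLines_inv ha (fun u a => ⟨f u a, hf u a⟩) hv b
    rw [← ha'] at hb
    rw [x.injective hb, dt_smul_right, dt_self, mul_zero] at hd
    exact hd rfl
  have hagree : ∀ v w : Pl F, v ≠ 0 → dt v w ≠ 0 → ∀ a, f v a = f w a := by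
    intro v w hv hd a
    have e := hf (v + w) a
    rw [smul_add, ha, hf v a, hf w a, ha, smul_add] at e
    have hd' := hind v w hv hd
    have e1 := congrArg (dt (x v)) e
    rw [dt_add_right, dt_add_right, dt_smul_right, dt_smul_right, dt_smul_right, dt_smul_right,
      dt_self, mul_zero, mul_zero, zero_add, zero_add] at e1
    have h1 : f w a = f (v + w) a := mul_right_cancel₀ hd' e1
    rw [← h1] at e
    have h2 := smul_left_injective F (ha.apply_ne hv) (add_right_cancel e)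
    exact h2
  let σ₀ : F → F := f e1
  have hne0 : dt (e0 : Pl F) e1 ≠ 0 := by simp [dt_e0, e1]
  have hσ : ∀ (a : F) (v : Pl F), x (a • v) = σ₀ a • x v := by
    intro a v
    by_cases hv : v = 0
    · rw [hv, smul_zero, ha.map_zero, smul_zero]
    by_cases hd : dt v e1 = 0
    · rw [hf v a, hagree v e0 hv ?_ a, hagree e0 e1 e0_ne hne0 a]
      intro h0
      refine hv ?_
      funext i
      fin_cases i
      · simpa [dt, e1] using hd
      · simpa [dt, e0] using h0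
    · rw [hf v a, hagree v e1 hv hd a]
  have hxe : x e1 ≠ 0 := ha.apply_ne e1_ne
  have hadd : ∀ a b, σ₀ (a + b) = σ₀ a + σ₀ b := fun a b =>
    smul_left_injective F hxe (by
      show σ₀ (a + b) • x e1 = (σ₀ a + σ₀ b) • x e1
      rw [← hσ, add_smul, ha, hσ, hσ, ← add_smul])
  have hmul : ∀ a b, σ₀ (a * b) = σ₀ a * σ₀ b := fun a b =>
    smul_left_injective F hxe (by
      show σ₀ (a * b) • x e1 = (σ₀ a * σ₀ b) • x e1
      rw [← hσ, ← smul_smul, hσ, hσ, smul_smul])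
  have hinj : Function.Injective σ₀ := fun a b e =>
    smul_left_injective F e1_ne (x.injective (by rw [hσ, hσ, e]))
  exact ⟨{ Equiv.ofBijective σ₀ (Finite.injective_iff_bijective.1 hinj) with
    map_mul' := hmul, map_add' := hadd }, hσ⟩

/-- An element of prime power order fixing the axis and acting linearly is in the unitriangular group. -/
theorem eq_uu_of_linear {p : ℕ} [Fact p.Prime] [CharP F p] {x : Equiv.Perm (Pl F)} (ha : IsAdd x)
    (hlin : ∀ (a : F) (v : Pl F), x (a • v) = a • x v) (h0 : (x e0) 1 = 0) {k : ℕ}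
    (hk : x ^ (p ^ k) = 1) : ∃ c : F, x = uu c := by
  have hA : ∀ n : ℕ, (x ^ n) e0 = (x e0 0) ^ n • e0 := fun n => by
    induction n with
    | zero => simp
    | succ n ih =>
      rw [pow_succ', Equiv.Perm.mul_apply, ih, hlin]
      have h0' := eq_smul_e0 h0
      generalize x e0 = w at h0' ⊢
      generalize w 0 = A at h0' ⊢
      rw [h0', smul_smul, pow_succ]
  have hx : ∀ v : Pl F, x v = v 0 • x e0 + v 1 • x e1 := by
    intro v
    conv_lhs => rw [show v = v 0 • e0 + v 1 • e1 by funext i; fin_cases i <;> simp [e0, e1]]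
    rw [ha, hlin, hlin]
  have hD1 : ∀ v : Pl F, x v 1 = v 1 * x e1 1 := fun v => by
    rw [hx v]; simp [h0]
  have hD : ∀ n : ℕ, (x ^ n) e1 1 = (x e1 1) ^ n := fun n => by
    induction n with
    | zero => simp [e1]
    | succ n ih => rw [pow_succ', Equiv.Perm.mul_apply, hD1, ih, pow_succ]
  have key : ∀ A : F, A ^ p ^ k = 1 → A = 1 := fun A h => by
    rw [← sub_eq_zero]
    refine eq_zero_of_pow_eq_zero (n := p ^ k) ?_
    rw [sub_pow_char_pow, h, one_pow, sub_self]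
  have h1 : x e0 = e0 := by
    have := hA (p ^ k)
    rw [hk, Equiv.Perm.one_apply] at this
    have h2 := congrFun this 0
    simp [e0] at h2
    conv_lhs => rw [eq_smul_e0 h0]
    rw [key (x e0 0) (by simpa [e0] using h2.symm), one_smul]
  have h2 : x e1 1 = 1 := by
    refine key _ ?_
    rw [← hD, hk, Equiv.Perm.one_apply]
    simp [e1]
  refine ⟨x e1 0, Equiv.ext fun v => ?_⟩
  rw [hx v, h1, uu_apply]
  funext i
  fin_cases i <;> simp [e0, h2, mul_comm]

/-- The data of a group in which a Sylow subgroup normalises the image of `SL₂`. -/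
structure Setting (F : Type*) [Field F] (p : ℕ) where
  /-- the group -/
  H : Subgroup (Equiv.Perm (Pl F))
  add : ∀ h ∈ H, IsAdd h
  range_le : (act F).range ≤ H
  /-- the Sylow subgroup -/
  S : Subgroup (Equiv.Perm (Pl F))
  S_le : S ≤ H
  S_p : IsPGroup p S
  S_max : ∀ T : Subgroup (Equiv.Perm (Pl F)), T ≤ H → IsPGroup p T → Nat.card T ≤ Nat.card S
  S_norm : ∀ x ∈ S, ∀ g, x * act F g * x⁻¹ ∈ (act F).range
  U_le : ∀ c, uu c ∈ S

namespace Setting

variable [Finite F] {p : ℕ} [Fact p.Prime] [CharP F p] (E : Setting F p)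

theorem uu_mem (c : F) : uu c ∈ E.H := E.range_le ⟨_, rfl⟩

theorem presLines_S {x : Equiv.Perm (Pl F)} (hx : x ∈ E.S) : PresLines x :=
  presLines_of_normalizes (E.add x (E.S_le hx)) (E.S_norm x hx)

theorem mem_U_of_range {g : Matrix.SpecialLinearGroup (Fin 2) F} (h : act F g ∈ E.S) :
    ∃ c, g = trv e0 c := by
  have hp : IsPGroup p ↥(E.S.comap (act F)) :=
    IsPGroup.comap_of_injective E.S_p (act F) act_injective
  have hle : uSubgroup F ≤ E.S.comap (act F) := fun g hg => by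
    obtain ⟨c, rfl⟩ := mem_range_uSubgroup.1 hg
    exact E.U_le c
  have := (uSylow (F := F) p).is_maximal' hp hle
  have hmem : g ∈ E.S.comap (act F) := h
  rw [this] at hmem
  exact mem_range_uSubgroup.1 hmem

theorem fix_axis {x : Equiv.Perm (Pl F)} (hx : x ∈ E.S) : (x e0) 1 = 0 := by
  obtain ⟨g, hg⟩ := E.S_norm x hx (trv e0 1)
  obtain ⟨d, rfl⟩ := E.mem_U_of_range (g := g)
    (hg ▸ mul_mem (mul_mem hx (E.U_le 1)) (inv_mem hx))
  have hd : d ≠ 0 := fun h => by
    rw [h, trv_zero, map_one, eq_comm, mul_inv_eq_one, mul_eq_left, ← map_one (act F),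
      ← trv_zero (e0 : Pl F)] at hg
    exact one_ne_zero (trv_inj e0_ne (act_injective hg))
  have h1 : uu d (x e0) = x e0 := by
    rw [uu, hg, Equiv.Perm.mul_apply, Equiv.Perm.mul_apply, Equiv.Perm.coe_inv,
      Equiv.symm_apply_apply, uu_fix _ (by simp [e0])]
  rw [uu_apply, add_eq_left, smul_eq_zero] at h1
  rcases h1 with h1 | h1
  · exact (mul_eq_zero.1 h1).resolve_left hd
  · exact absurd h1 e0_ne

theorem fix_axis' {x : Equiv.Perm (Pl F)} (hx : x ∈ E.S) {v : Pl F} (hv : v 1 = 0) : x v 1 = 0 := by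
  rw [eq_smul_e0 hv]
  obtain ⟨b, hb⟩ := E.presLines_S hx e0 (v 0)
  rw [hb]
  simp [E.fix_axis hx]

theorem eq_uu {x : Equiv.Perm (Pl F)} (hx : x ∈ E.S)
    (hlin : ∀ (a : F) (v : Pl F), x (a • v) = a • x v) : ∃ c : F, x = uu c := by
  obtain ⟨k, hk⟩ := E.S_p ⟨x, hx⟩
  exact eq_uu_of_linear (E.add x (E.S_le hx)) hlin (E.fix_axis hx) (k := k)
    (congrArg Subtype.val hk)

/-- The stabiliser of the axis. -/
def H0 : Subgroup (Equiv.Perm (Pl F)) where
  carrier := {h | h ∈ E.H ∧ ∀ v : Pl F, h v 1 = 0 ↔ v 1 = 0}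
  one_mem' := ⟨one_mem _, fun _ => Iff.rfl⟩
  mul_mem' := fun {a b} ha hb => ⟨mul_mem ha.1 hb.1, fun v => (ha.2 (b v)).trans (hb.2 v)⟩
  inv_mem' := fun {a} ha => ⟨inv_mem ha.1, fun v => by
    rw [← ha.2 (a⁻¹ v), Equiv.Perm.coe_inv, Equiv.apply_symm_apply]⟩

theorem mem_H0 {h : Equiv.Perm (Pl F)} :
    h ∈ E.H0 ↔ h ∈ E.H ∧ ∀ v : Pl F, h v 1 = 0 ↔ v 1 = 0 := Iff.rfl

theorem mem_H0_of {h : Equiv.Perm (Pl F)} (hh : h ∈ E.H) (hs : ∀ v : Pl F, v 1 = 0 → h v 1 = 0) :
    h ∈ E.H0 := by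
  refine ⟨hh, fun v => ⟨fun hv => ?_, hs v⟩⟩
  have hinj : Function.Injective fun w : {w : Pl F // w 1 = 0} =>
      (⟨h w, hs w w.2⟩ : {w : Pl F // w 1 = 0}) := fun a b e =>
    Subtype.ext (h.injective (congrArg Subtype.val e))
  obtain ⟨w, hw⟩ := Finite.surjective_of_injective hinj ⟨h v, hv⟩
  rw [← h.injective (congrArg Subtype.val hw)]
  exact w.2

theorem S_le_H0 : E.S ≤ E.H0 := fun _ hx => E.mem_H0_of (E.S_le hx) fun _ => E.fix_axis' hx

theorem H0_le : E.H0 ≤ E.H := fun _ h => h.1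

theorem card_S_H : Nat.card E.S = p ^ (Nat.card E.H).factorization p := by
  obtain ⟨P⟩ := (inferInstance : Nonempty (Sylow p E.H))
  obtain ⟨k, hk⟩ := IsPGroup.iff_card.1 E.S_p
  have h2 := E.S_max ((P : Subgroup E.H).map E.H.subtype) (Subgroup.map_subtype_le _) (P.isPGroup'.map _)
  rw [Subgroup.card_map_of_injective (Subgroup.subtype_injective _), P.card_eq_multiplicity] at h2
  refine le_antisymm (Nat.le_of_dvd (pow_pos (Fact.out : p.Prime).pos _) ?_) h2
  rw [hk]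
  refine Nat.pow_dvd_pow p (((Fact.out : p.Prime).pow_dvd_iff_le_factorization Nat.card_pos.ne').1 ?_)
  rw [← hk]
  exact Subgroup.card_dvd_of_le E.S_le

theorem card_S_H0 : Nat.card E.S = p ^ (Nat.card E.H0).factorization p := by
  obtain ⟨P⟩ := (inferInstance : Nonempty (Sylow p E.H0))
  obtain ⟨k, hk⟩ := IsPGroup.iff_card.1 E.S_p
  have h2 := E.S_max ((P : Subgroup E.H0).map E.H0.subtype)
    ((Subgroup.map_subtype_le _).trans E.H0_le) (P.isPGroup'.map _)
  rw [Subgroup.card_map_of_injective (Subgroup.subtype_injective _), P.card_eq_multiplicity] at h2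
  refine le_antisymm (Nat.le_of_dvd (pow_pos (Fact.out : p.Prime).pos _) ?_) h2
  rw [hk]
  refine Nat.pow_dvd_pow p (((Fact.out : p.Prime).pow_dvd_iff_le_factorization Nat.card_pos.ne').1 ?_)
  rw [← hk]
  exact Subgroup.card_dvd_of_le E.S_le_H0

/-- The Sylow subgroup of the stabiliser of the axis. -/
noncomputable def sylow0 : Sylow p E.H0 :=
  Sylow.ofCard (E.S.subgroupOf E.H0) (by
    rw [Nat.card_congr (Subgroup.subgroupOfEquivOfLe E.S_le_H0).toEquiv]; exact E.card_S_H0)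

theorem conj_into_S {T : Subgroup (Equiv.Perm (Pl F))} (hT : T ≤ E.H0) (hp : IsPGroup p T) :
    ∃ y ∈ E.H0, ∀ t ∈ T, y * t * y⁻¹ ∈ E.S := by
  obtain ⟨P, hP⟩ := (hp.comap_of_injective E.H0.subtype E.H0.subtype_injective).exists_le_sylow
  obtain ⟨y, hy⟩ := MulAction.exists_smul_eq E.H0 P E.sylow0
  refine ⟨y, y.2, fun t ht => ?_⟩
  have h1 : (⟨t, hT ht⟩ : E.H0) ∈ (P : Subgroup E.H0) := hP ht
  have h2 : y * ⟨t, hT ht⟩ * y⁻¹ ∈ ((y • P : Sylow p E.H0) : Subgroup E.H0) :=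
    (CfsgLib.Classical.mem_sylow_smul p).2 ⟨_, h1, rfl⟩
  rw [hy] at h2
  exact h2

/-- Fusion condition: no element of the Sylow subgroup outside `U` is conjugate into `U`. -/
def NoFusion : Prop :=
  ∀ h ∈ E.H, ∀ c : F, c ≠ 0 → h * uu c * h⁻¹ ∈ E.S → ∃ d, h * uu c * h⁻¹ = uu d

theorem semiregular (hf : E.NoFusion) {h : Equiv.Perm (Pl F)} (hh : h ∈ E.H) {c : F} (hc : c ≠ 0)
    (hst : ∀ v : Pl F, (h⁻¹ v) 1 = 0 → (h⁻¹ (uu c v)) 1 = 0) :
    ∀ v : Pl F, (h⁻¹ v) 1 = 0 → v 1 = 0 := by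
  have hu : h⁻¹ * uu c * h ∈ E.H0 := by
    refine E.mem_H0_of (mul_mem (mul_mem (inv_mem hh) (E.uu_mem c)) hh) fun v hv => ?_
    exact hst (h v) (by rw [Equiv.Perm.coe_inv, Equiv.symm_apply_apply]; exact hv)
  have hp : IsPGroup p ↥(Subgroup.zpowers (h⁻¹ * uu c * h)) := by
    refine IsPGroup.iff_card.2 ?_
    rw [Nat.card_zpowers]
    have h1 : (h⁻¹ * uu c * h) ^ p ^ 1 = 1 := by
      have : (h⁻¹ * uu c * h) ^ p = h⁻¹ * uu c ^ p * h := by
        simpa using conj_pow (a := h⁻¹) (b := uu c) (i := p)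
      rw [pow_one, this, uu_pow, CharP.cast_eq_zero, zero_mul, uu_one, mul_one, inv_mul_cancel]
    obtain ⟨j, -, hj⟩ := (Nat.dvd_prime_pow (Fact.out : p.Prime)).1 (orderOf_dvd_of_pow_eq_one h1)
    exact ⟨j, hj⟩
  obtain ⟨y, hy, hyS⟩ := E.conj_into_S (Subgroup.zpowers_le.2 hu) hp
  have hxS := hyS _ (Subgroup.mem_zpowers _)
  have e : y * (h⁻¹ * uu c * h) * y⁻¹ = (y * h⁻¹) * uu c * (y * h⁻¹)⁻¹ := by group
  rw [e] at hxS
  obtain ⟨d, hd⟩ := hf _ (mul_mem hy.1 (inv_mem hh)) c hc hxS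
  intro v hv
  have h2 : uu c v = v := by
    have h3 : uu d ((y * h⁻¹) v) = (y * h⁻¹) v := uu_fix d ((hy.2 _).2 hv)
    rw [← hd, ← Equiv.Perm.mul_apply, inv_mul_cancel_right, Equiv.Perm.mul_apply (y * h⁻¹)] at h3
    exact (y * h⁻¹).injective h3
  rw [uu_apply, add_eq_left, smul_eq_zero] at h2
  rcases h2 with h2 | h2
  · exact (mul_eq_zero.1 h2).resolve_left hc
  · exact absurd h2 e0_ne

/-- Without fusion the images of the axis form a partial spread, hence are lines. -/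
theorem presLines (hf : E.NoFusion) : ∀ h ∈ E.H, PresLines h := by
  classical
  let D : Equiv.Perm (Pl F) → Set (Pl F) := fun h => {v | (h⁻¹ v) 1 = 0 ∧ v 1 = 0}
  have main : ∀ h ∈ E.H, (∃ v ∈ D h, v ≠ 0) → ∀ v : Pl F, (h⁻¹ v) 1 = 0 → v 1 = 0 := by
    by_contra hcon
    push_neg at hcon
    let X : Set (Equiv.Perm (Pl F)) := {h | h ∈ E.H ∧ (∃ v ∈ D h, v ≠ 0) ∧
      ∃ v : Pl F, (h⁻¹ v) 1 = 0 ∧ v 1 ≠ 0}
    have hX : X.Nonempty := by
      obtain ⟨h, hh, h1, v, h2, h3⟩ := hcon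
      exact ⟨h, hh, h1, v, h2, h3⟩
    obtain ⟨h, ⟨hh, ⟨v, hv, hv0⟩, y, hy, hy1⟩, hmax⟩ :=
      Set.exists_max_image X (fun h => (D h).ncard) (Set.toFinite _) hX
    obtain ⟨hvh, hv1⟩ := hv
    set c := v 0 / y 1 with hc
    have hc0 : c ≠ 0 := div_ne_zero (fun e => hv0 (by rw [eq_smul_e0 hv1, e, zero_smul])) hy1
    have huy : uu c y = y + v := by
      rw [uu_apply, hc, div_mul_cancel₀ _ hy1, ← eq_smul_e0 hv1]
    obtain ⟨z, hz, hz1⟩ : ∃ z : Pl F, (h⁻¹ z) 1 = 0 ∧ (h⁻¹ (uu c z)) 1 ≠ 0 := by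
      by_contra hne
      push_neg at hne
      exact hy1 (E.semiregular hf hh hc0 hne y hy)
    have hadd := (E.add h hh).inv
    set k := h⁻¹ * uu c * h with hk
    have hkinv : ∀ w : Pl F, k⁻¹ w = h⁻¹ ((uu c)⁻¹ (h w)) := fun w => by
      rw [show k⁻¹ = h⁻¹ * (uu c)⁻¹ * h by rw [hk]; group]
      rfl
    have hsub : ∀ w ∈ insert (y + v) (D h), h⁻¹ w ∈ D k := by
      rintro w (rfl | ⟨hw, hw1⟩)
      · refine ⟨?_, ?_⟩
        · rw [hkinv, apply_pinv, ← huy, pinv_apply]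
          exact hy
        · rw [hadd, Pi.add_apply, hy, hvh, add_zero]
      · refine ⟨?_, hw⟩
        rw [hkinv, apply_pinv, uu_inv, uu_fix _ hw1]
        exact hw
    have hlt : (D h).ncard < (D k).ncard := by
      have h1 : (insert (y + v) (D h)).ncard = (D h).ncard + 1 :=
        Set.ncard_insert_of_notMem (fun hmem => hy1 (by simpa [hv1] using hmem.2)) (Set.toFinite _)
      have h2 : ((h⁻¹ : Equiv.Perm (Pl F)) '' insert (y + v) (D h)).ncard ≤ (D k).ncard :=
        Set.ncard_le_ncard (Set.image_subset_iff.2 hsub) (Set.toFinite _)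
      rw [Set.ncard_image_of_injective _ (Equiv.injective _), h1] at h2
      omega
    have hkX : k ∈ X := by
      refine ⟨mul_mem (mul_mem (inv_mem hh) (E.uu_mem c)) hh,
        ⟨h⁻¹ v, hsub v (Or.inr ⟨hvh, hv1⟩), hadd.apply_ne hv0⟩, h⁻¹ (uu c z), ?_, hz1⟩
      rw [hkinv, apply_pinv, pinv_apply]
      exact hz
    exact absurd (hmax k hkX) (by simpa using hlt)
  intro h hh w a
  by_cases hw : w = 0
  · exact ⟨0, by rw [hw, smul_zero, (E.add h hh).map_zero, zero_smul]⟩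
  obtain ⟨g, hg⟩ := exists_act_e0 hw
  obtain ⟨g', hg'⟩ := exists_act_e0 ((E.add h hh).apply_ne hw)
  set k := (act F g')⁻¹ * h * act F g with hk
  have hkH : k ∈ E.H :=
    mul_mem (mul_mem (inv_mem (E.range_le ⟨g', rfl⟩)) hh) (E.range_le ⟨g, rfl⟩)
  have hke : k e0 = e0 := by
    rw [hk, Equiv.Perm.mul_apply, Equiv.Perm.mul_apply, hg, ← hg', Equiv.Perm.coe_inv,
      Equiv.symm_apply_apply]
  have h1 := main k hkH ⟨e0, ⟨by
    rw [show k⁻¹ e0 = e0 by conv_lhs => rw [← hke, Equiv.Perm.coe_inv, Equiv.symm_apply_apply]]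
    simp [e0], by simp [e0]⟩, e0_ne⟩ (k (a • e0))
    (by rw [Equiv.Perm.coe_inv, Equiv.symm_apply_apply]; simp [e0])
  refine ⟨k (a • e0) 0, ?_⟩
  have h2 : h (a • w) = act F g' (k (a • e0)) := by
    rw [hk, Equiv.Perm.mul_apply, Equiv.Perm.mul_apply, Equiv.Perm.coe_inv, Equiv.apply_symm_apply,
      act_smul, hg]
  rw [h2, ← hg', ← act_smul, ← eq_smul_e0 h1]

/-- In odd characteristic there is no fusion. -/
theorem noFusion_odd (h2 : p ≠ 2) : E.NoFusion := by
  intro h hh c _ hx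
  set x := h * uu c * h⁻¹ with hxdef
  have hax := E.add x (E.S_le hx)
  obtain ⟨σ, hσ⟩ := exists_sigma hax (E.presLines_S hx)
  have hquad : ∀ v, x (x v) + v = x v + x v := by
    intro v
    have hq : ∀ w, uu c (uu c w) + w = uu c w + uu c w := fun w => by
      rw [uu_apply c (uu c w), show uu c w 1 = w 1 by simp [uu_apply, e0], uu_apply]
      abel
    show h (uu c (h⁻¹ (h (uu c (h⁻¹ v))))) + v = h (uu c (h⁻¹ v)) + h (uu c (h⁻¹ v))
    rw [pinv_apply, ← (E.add h hh), ← hq, (E.add h hh), apply_pinv]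
  set D := x e1 1 with hD
  have hsec : ∀ v : Pl F, x v 1 = σ (v 1) * D := by
    intro v
    conv_lhs => rw [show v = v 0 • e0 + v 1 • e1 by funext i; fin_cases i <;> simp [e0, e1]]
    rw [hax, hσ, hσ]
    simp [E.fix_axis hx, hD]
  have hD0 : D ≠ 0 := by
    intro h0
    have hxH := E.S_le_H0 hx
    have := (hxH.2 e1).1 h0
    simp [e1] at this
  have eq : ∀ a, σ (σ a) * σ D * D + a = σ a * D + σ a * D := fun a => by
    have := congrFun (hquad (a • e1)) 1
    simp only [Pi.add_apply, hsec] at this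
    simpa [e1] using this
  have h1 : σ D * D + 1 = D + D := by simpa using eq 1
  have two : (2 : F) ≠ 0 := by
    intro h
    exact h2 (((Nat.prime_dvd_prime_iff_eq (Fact.out : p.Prime) Nat.prime_two).1
      ((CharP.cast_eq_zero_iff F p 2).1 (by exact_mod_cast h))))
  have hkey : ∀ a b, (σ (σ b) - b) * (σ a - a) = 0 := by
    intro a b
    have e2 := eq (a * b)
    simp only [map_mul] at e2
    have e1b := eq b
    have hb : (D + D) * (σ (σ b) - σ b) = σ (σ b) - b := by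
      linear_combination e1b - σ (σ b) * h1
    linear_combination e2 - σ (σ b) * eq a - σ a * hb
  have hσ1 : ∀ a, σ a = a := by
    intro a
    by_cases hb : ∀ b, σ (σ b) = b
    · have := eq a
      rw [hb a] at this
      have h3 : (2 * D) * (σ a - a) = 0 := by linear_combination a * h1 - this
      exact sub_eq_zero.1 ((mul_eq_zero.1 h3).resolve_left (mul_ne_zero two hD0))
    · push_neg at hb
      obtain ⟨b, hb⟩ := hb
      exact sub_eq_zero.1 ((mul_eq_zero.1 (hkey a b)).resolve_left (sub_ne_zero.2 hb))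
  exact E.eq_uu hx fun a v => by rw [hσ, hσ1]

end Setting

end CfsgLib.NatSL2
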